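import Cfsg.Prelude.Def_BaumannBlocks

/-!
The Chermak–Delgado measure `|R| · |C(R)|`, and centrally large subgroups.
-/

set_option autoImplicit false

namespace Cfsg.Agent.CentLarge

open Subgroup
open scoped Pointwise

variable {G : Type*} [Group G]

/-- The order of a product of two subgroups times the order of their intersection. -/
theorem card_mul_card_inf (H K : Subgroup G) :
    Nat.card ↥((H : Set G) * (K : Set G)) * Nat.card ↥(H ⊓ K) = Nat.card H * Nat.card K := by
  classical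
  rw [← Nat.card_prod, ← Nat.card_prod]
  have hdec : ∀ s : ↥((H : Set G) * (K : Set G)), ∃ p : H × K, (p.1 : G) * p.2 = s := by
    rintro ⟨_, a, ha, b, hb, rfl⟩
    exact ⟨(⟨a, ha⟩, ⟨b, hb⟩), rfl⟩
  choose f hf using hdec
  refine Nat.card_congr (Equiv.ofBijective
    (fun sd : ↥((H : Set G) * (K : Set G)) × ↥(H ⊓ K) =>
      ((⟨(f sd.1).1 * (sd.2 : G), mul_mem (f sd.1).1.2 sd.2.2.1⟩ : H),
       (⟨(sd.2 : G)⁻¹ * (f sd.1).2, mul_mem (inv_mem sd.2.2.2) (f sd.1).2.2⟩ : K))) ⟨?_, ?_⟩)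
  · rintro ⟨s, d⟩ ⟨t, e⟩ h
    simp only [Prod.mk.injEq, Subtype.mk.injEq] at h
    have hst : s = t := by
      apply Subtype.ext
      rw [← hf s, ← hf t]
      calc ((f s).1 : G) * (f s).2 = (f s).1 * d * ((d : G)⁻¹ * (f s).2) := by group
        _ = (f t).1 * e * ((e : G)⁻¹ * (f t).2) := by rw [h.1, h.2]
        _ = _ := by group
    subst hst
    exact Prod.ext rfl (Subtype.ext (mul_left_cancel h.1))
  · rintro ⟨a, b⟩
    let s : ↥((H : Set G) * (K : Set G)) := ⟨a * b, Set.mul_mem_mul a.2 b.2⟩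
    have hs : ((f s).1 : G) * (f s).2 = a * b := hf s
    have e : ((f s).1 : G)⁻¹ * a = (f s).2 * (b : G)⁻¹ := by
      rw [eq_mul_inv_iff_mul_eq, mul_assoc, ← hs, inv_mul_cancel_left]
    refine ⟨(s, ⟨((f s).1 : G)⁻¹ * a, Subgroup.mem_inf.2 ⟨H.mul_mem (H.inv_mem (f s).1.2) a.2,
      e ▸ K.mul_mem (f s).2.2 (K.inv_mem b.2)⟩⟩), ?_⟩
    refine Prod.ext (Subtype.ext ?_) (Subtype.ext ?_)
    · simp
    · simp only [Subgroup.coe_mul, Subgroup.coe_inv]
      rw [e]
      simp

theorem set_mul_subset_sup (H K : Subgroup G) :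
    (H : Set G) * (K : Set G) ⊆ ((H ⊔ K : Subgroup G) : Set G) := by
  rintro _ ⟨a, ha, b, hb, rfl⟩
  exact Subgroup.mul_mem_sup ha hb

theorem card_mul_le_of_le [Finite G] {H K L : Subgroup G} (hH : H ≤ L) (hK : K ≤ L) :
    Nat.card H * Nat.card K ≤ Nat.card L * Nat.card ↥(H ⊓ K) := by
  rw [← card_mul_card_inf]
  exact Nat.mul_le_mul_right _
    (Nat.card_mono (Set.toFinite _) ((set_mul_subset_sup H K).trans (sup_le hH hK)))

theorem centralizer_sup (H K : Subgroup G) :
    centralizer ((H ⊔ K : Subgroup G) : Set G) = centralizer (H : Set G) ⊓ centralizer (K : Set G) :=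
  le_antisymm (le_inf (centralizer_le (SetLike.coe_subset_coe.2 le_sup_left))
      (centralizer_le (SetLike.coe_subset_coe.2 le_sup_right)))
    (le_centralizer_iff.1 (sup_le (le_centralizer_iff.1 inf_le_left) (le_centralizer_iff.1 inf_le_right)))

/-- The Chermak–Delgado measure. -/
noncomputable def mu (H : Subgroup G) : ℕ := Nat.card H * Nat.card ↥(centralizer (H : Set G))

theorem mu_top : mu (⊤ : Subgroup G) = Nat.card G * Nat.card (center G) := by
  simp [mu, centralizer_univ]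

theorem centralizer_map (e : G ≃* G) (H : Subgroup G) :
    centralizer ((H.map e.toMonoidHom : Subgroup G) : Set G)
      = (centralizer (H : Set G)).map e.toMonoidHom := by
  ext a
  rw [Subgroup.mem_map_equiv, mem_centralizer_iff, mem_centralizer_iff]
  constructor
  · intro h b hb
    apply e.injective
    simpa using h (e b) ⟨b, hb, rfl⟩
  · rintro h _ ⟨b, hb, rfl⟩
    apply e.symm.injective
    simpa using h b hb

theorem mu_map (e : G ≃* G) (H : Subgroup G) : mu (H.map e.toMonoidHom) = mu H := by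
  unfold mu
  have hC := centralizer_map e H
  rw [hC, ← Nat.card_congr (H.equivMapOfInjective _ e.injective).toEquiv,
    ← Nat.card_congr ((centralizer (H : Set G)).equivMapOfInjective _ e.injective).toEquiv]

variable [Finite G]

theorem mu_pos (H : Subgroup G) : 0 < mu H := Nat.mul_pos Nat.card_pos Nat.card_pos

theorem mu_mul_mu (H K : Subgroup G) :
    mu H * mu K =
      (Nat.card ↥((H : Set G) * (K : Set G)) *
        Nat.card ↥(centralizer ((H ⊔ K : Subgroup G) : Set G))) *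
      (Nat.card ↥(H ⊓ K) *
        Nat.card ↥((centralizer (H : Set G) : Set G) * (centralizer (K : Set G) : Set G))) := by
  rw [centralizer_sup]
  have h1 := card_mul_card_inf H K
  have h2 := card_mul_card_inf (centralizer (H : Set G)) (centralizer (K : Set G))
  unfold mu
  calc _ = (Nat.card H * Nat.card K) *
        (Nat.card ↥(centralizer (H : Set G)) * Nat.card ↥(centralizer (K : Set G))) := by ring
    _ = _ := by rw [← h1, ← h2]; ring

theorem centralizer_mul_subset (H K : Subgroup G) :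
    (centralizer (H : Set G) : Set G) * (centralizer (K : Set G) : Set G) ⊆
      (centralizer ((H ⊓ K : Subgroup G) : Set G) : Set G) :=
  (set_mul_subset_sup _ _).trans
    (sup_le (centralizer_le (SetLike.coe_subset_coe.2 inf_le_left))
      (centralizer_le (SetLike.coe_subset_coe.2 inf_le_right)))

theorem mu_mul_le (H K : Subgroup G) : mu H * mu K ≤ mu (H ⊔ K) * mu (H ⊓ K) := by
  rw [mu_mul_mu]
  exact Nat.mul_le_mul
    (Nat.mul_le_mul_right _ (Nat.card_mono (Set.toFinite _) (set_mul_subset_sup H K)))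
    (Nat.mul_le_mul_left _ (Nat.card_mono (Set.toFinite _) (centralizer_mul_subset H K)))

/-- `H` has largest measure. -/
def IsMuMax (H : Subgroup G) : Prop := ∀ T : Subgroup G, mu T ≤ mu H

theorem exists_isMuMax : ∃ H : Subgroup G, IsMuMax H := Finite.exists_max mu

theorem IsMuMax.mu_eq {H K : Subgroup G} (hH : IsMuMax H) (hK : IsMuMax K) : mu H = mu K :=
  le_antisymm (hK H) (hH K)

theorem IsMuMax.of_le {H K : Subgroup G} (hH : IsMuMax H) (h : mu H ≤ mu K) : IsMuMax K :=
  fun T => (hH T).trans h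

theorem IsMuMax.map {H : Subgroup G} (hH : IsMuMax H) (e : G ≃* G) :
    IsMuMax (H.map e.toMonoidHom) := hH.of_le (mu_map e H).ge

theorem IsMuMax.sup_inf {H K : Subgroup G} (hH : IsMuMax H) (hK : IsMuMax K) :
    IsMuMax (H ⊔ K) ∧ IsMuMax (H ⊓ K) ∧
    ((H ⊔ K : Subgroup G) : Set G) = (H : Set G) * (K : Set G) ∧
    (centralizer ((H ⊓ K : Subgroup G) : Set G) : Set G) =
      (centralizer (H : Set G) : Set G) * (centralizer (K : Set G) : Set G) := by
  have hle := mu_mul_le H K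
  have h1 := hH (H ⊔ K)
  have h2 := hH (H ⊓ K)
  have hM := mu_pos H
  rw [hK.mu_eq hH] at hle
  have e1 : mu (H ⊔ K) = mu H := by nlinarith
  have e2 : mu (H ⊓ K) = mu H := by nlinarith
  refine ⟨hH.of_le e1.ge, hH.of_le e2.ge, ?_⟩
  have hmm := mu_mul_mu H K
  rw [hK.mu_eq hH] at hmm
  set a := Nat.card ↥((H : Set G) * (K : Set G)) with ha
  set b := Nat.card ↥((centralizer (H : Set G) : Set G) * (centralizer (K : Set G) : Set G)) with hb
  have ha' : a ≤ Nat.card ↥((H ⊔ K : Subgroup G) : Set G) :=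
    Nat.card_mono (Set.toFinite _) (set_mul_subset_sup H K)
  have hb' : b ≤ Nat.card ↥((centralizer ((H ⊓ K : Subgroup G) : Set G) : Set G)) :=
    Nat.card_mono (Set.toFinite _) (centralizer_mul_subset H K)
  simp only [SetLike.coe_sort_coe] at ha' hb'
  have hc1 : 0 < Nat.card ↥(centralizer ((H ⊔ K : Subgroup G) : Set G)) := Nat.card_pos
  have hc2 : 0 < Nat.card ↥(H ⊓ K) := Nat.card_pos
  have ea := Nat.mul_le_mul_right (Nat.card ↥(centralizer ((H ⊔ K : Subgroup G) : Set G))) ha'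
  have eb := Nat.mul_le_mul_left (Nat.card ↥(H ⊓ K)) hb'
  rw [show Nat.card ↥(H ⊔ K) * _ = mu (H ⊔ K) from rfl, e1] at ea
  rw [show Nat.card ↥(H ⊓ K) * Nat.card ↥(centralizer ((H ⊓ K : Subgroup G) : Set G))
    = mu (H ⊓ K) from rfl, e2] at eb
  have fa : a * Nat.card ↥(centralizer ((H ⊔ K : Subgroup G) : Set G)) = mu H :=
    le_antisymm ea (Nat.le_of_mul_le_mul_right (hmm.le.trans (Nat.mul_le_mul_left _ eb)) hM)
  have fb : Nat.card ↥(H ⊓ K) * b = mu H :=
    le_antisymm eb (Nat.le_of_mul_le_mul_left (hmm.le.trans (Nat.mul_le_mul_right _ ea)) hM)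
  constructor
  · refine (Set.eq_of_subset_of_ncard_le (set_mul_subset_sup H K) ?_ (Set.toFinite _)).symm
    rw [← Nat.card_coe_set_eq, ← Nat.card_coe_set_eq, ← ha]
    exact le_of_eq (Nat.eq_of_mul_eq_mul_right hc1 (fa.trans e1.symm)).symm
  · refine (Set.eq_of_subset_of_ncard_le (centralizer_mul_subset H K) ?_ (Set.toFinite _)).symm
    rw [← Nat.card_coe_set_eq, ← Nat.card_coe_set_eq, ← hb]
    exact le_of_eq (Nat.eq_of_mul_eq_mul_left hc2 (fb.trans e2.symm)).symm

theorem IsMuMax.centralizer_inf_eq {H K : Subgroup G} (hH : IsMuMax H) (hK : IsMuMax K) :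
    centralizer ((H ⊓ K : Subgroup G) : Set G) =
      centralizer (H : Set G) ⊔ centralizer (K : Set G) := by
  refine le_antisymm ?_ (sup_le (centralizer_le (SetLike.coe_subset_coe.2 inf_le_left))
      (centralizer_le (SetLike.coe_subset_coe.2 inf_le_right)))
  intro a ha
  exact set_mul_subset_sup _ _ ((hH.sup_inf hK).2.2.2 ▸ ha)

theorem IsMuMax.centralizer_max {H : Subgroup G} (hH : IsMuMax H) :
    IsMuMax (centralizer (H : Set G)) ∧
      H = centralizer ((centralizer (H : Set G) : Subgroup G) : Set G) := by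
  have hle : H ≤ centralizer ((centralizer (H : Set G) : Subgroup G) : Set G) :=
    le_centralizer_iff.1 le_rfl
  have h2 : mu H ≤ mu (centralizer (H : Set G)) := by
    unfold mu
    rw [mul_comm]
    exact Nat.mul_le_mul_left _ (Subgroup.card_le_of_le hle)
  refine ⟨hH.of_le h2, eq_of_le_of_card_ge hle ?_⟩
  have h3 := hH (centralizer (H : Set G))
  unfold mu at h3
  nth_rw 2 [mul_comm] at h3
  exact Nat.le_of_mul_le_mul_left h3 Nat.card_pos

theorem isCentralizerLarge_iff (H : Subgroup G) : Cfsg.IsCentralizerLarge H ↔ IsMuMax H := by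
  have hfin : {k : ℕ | ∃ R : Subgroup G, mu R = k}.Finite := Set.finite_range (fun R : Subgroup G => mu R)
  have hbdd := hfin.bddAbove
  have hM : ∀ T : Subgroup G, mu T ≤ Cfsg.maxCentralizerProduct G :=
    fun T => le_csSup hbdd ⟨T, rfl⟩
  unfold Cfsg.IsCentralizerLarge
  refine ⟨fun h T => (hM T).trans_eq h.symm, fun h => le_antisymm (hM H) ?_⟩
  refine csSup_le' ?_
  rintro k ⟨R, rfl⟩
  exact h R

theorem card_center (H : Subgroup G) :
    Nat.card (center ↥H) = Nat.card ↥(H ⊓ centralizer (H : Set G)) := by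
  refine Nat.card_congr
    ⟨fun z => ⟨z.1.1, Subgroup.mem_inf.2 ⟨z.1.2, ?_⟩⟩, fun z => ⟨⟨z.1, z.2.1⟩, ?_⟩, fun z => rfl, fun z => rfl⟩
  · rw [mem_centralizer_iff]
    intro h hh
    exact congrArg Subtype.val (mem_center_iff.1 z.2 ⟨h, hh⟩)
  · rw [mem_center_iff]
    intro h
    exact Subtype.ext (mem_centralizer_iff.1 z.2.2 h h.2)

theorem sup_centralizer_max {H : Subgroup G} (hH : IsMuMax H) :
    IsMuMax (H ⊔ centralizer (H : Set G)) ∧
      centralizer ((H ⊔ centralizer (H : Set G) : Subgroup G) : Set G) ≤ H ⊔ centralizer (H : Set G) := by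
  refine ⟨(hH.sup_inf hH.centralizer_max.1).1, ?_⟩
  rw [centralizer_sup]
  exact le_trans inf_le_left le_sup_right

theorem isCentrallyLarge_iff (H : Subgroup G) :
    Cfsg.IsCentrallyLarge H ↔ IsMuMax H ∧ centralizer (H : Set G) ≤ H := by
  have hfin : {k : ℕ | ∃ R : Subgroup G, Nat.card R * Nat.card (center ↥R) = k}.Finite :=
    Set.finite_range (fun R : Subgroup G => Nat.card R * Nat.card (center ↥R))
  have hzle : ∀ R : Subgroup G, Nat.card R * Nat.card (center ↥R) ≤ mu R := fun R => by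
    rw [card_center]
    exact Nat.mul_le_mul_left _ (Subgroup.card_le_of_le inf_le_right)
  obtain ⟨R₀, hR₀⟩ := exists_isMuMax (G := G)
  obtain ⟨hR, hRc⟩ := sup_centralizer_max hR₀
  set R := R₀ ⊔ centralizer (R₀ : Set G)
  have hRz : Nat.card R * Nat.card (center ↥R) = mu R := by
    rw [card_center, inf_eq_right.2 hRc]; rfl
  have hmax : Cfsg.maxCentralProduct G = mu R := by
    refine le_antisymm (csSup_le' ?_) (le_csSup hfin.bddAbove ⟨R, hRz⟩)
    rintro k ⟨T, rfl⟩
    exact (hzle T).trans (hR T)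
  unfold Cfsg.IsCentrallyLarge
  rw [hmax]
  constructor
  · intro h
    have hH : IsMuMax H := hR.of_le (h ▸ hzle H)
    refine ⟨hH, ?_⟩
    have h' : Nat.card H * Nat.card ↥(H ⊓ centralizer (H : Set G)) = mu H := by
      rw [← card_center, h, hR.mu_eq hH]
    have := eq_of_le_of_card_ge (inf_le_right : H ⊓ centralizer (H : Set G) ≤ _)
      (Nat.eq_of_mul_eq_mul_left Nat.card_pos h').ge
    exact this ▸ inf_le_left
  · rintro ⟨hH, hc⟩
    rw [card_center, inf_eq_right.2 hc]
    exact hH.mu_eq hR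

theorem isCentrallyLarge_sup {Q R : Subgroup G} (hQ : Cfsg.IsCentrallyLarge Q)
    (hR : Cfsg.IsCentrallyLarge R) :
    ((Q ⊔ R : Subgroup G) : Set G) = (Q : Set G) * (R : Set G) ∧ Cfsg.IsCentrallyLarge (Q ⊔ R) := by
  rw [isCentrallyLarge_iff] at hQ hR ⊢
  obtain ⟨h1, -, h3, -⟩ := hQ.1.sup_inf hR.1
  refine ⟨h3, h1, ?_⟩
  rw [centralizer_sup]
  exact le_trans inf_le_left (hQ.2.trans le_sup_left)

theorem exists_isCentrallyLarge : ∃ R : Subgroup G, Cfsg.IsCentrallyLarge R := by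
  obtain ⟨R₀, hR₀⟩ := exists_isMuMax (G := G)
  exact ⟨_, (isCentrallyLarge_iff _).2 (sup_centralizer_max hR₀)⟩

theorem exists_isMinimalCentrallyLarge_le {R : Subgroup G} (hR : Cfsg.IsCentrallyLarge R) :
    ∃ Q ≤ R, Cfsg.IsMinimalCentrallyLarge Q := by
  obtain ⟨Q, hQR, hQ⟩ :=
    ((Set.toFinite {Q : Subgroup G | Cfsg.IsCentrallyLarge Q}).exists_le_minimal hR)
  exact ⟨Q, hQR, hQ.1, fun R' hle hR' => le_antisymm hle (hQ.2 hR' hle)⟩

theorem isCentrallyLarge_sSup (s : Set (Subgroup G)) (hne : s.Nonempty)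
    (h : ∀ R ∈ s, Cfsg.IsCentrallyLarge R) : Cfsg.IsCentrallyLarge (sSup s) := by
  obtain ⟨R₁, hR₁⟩ := hne
  obtain ⟨R, -, ⟨hR, hRle⟩, hmax⟩ := (Set.toFinite {R : Subgroup G |
    Cfsg.IsCentrallyLarge R ∧ R ≤ sSup s}).exists_le_maximal
      (show R₁ ∈ {R : Subgroup G | Cfsg.IsCentrallyLarge R ∧ R ≤ sSup s} from ⟨h R₁ hR₁, le_sSup hR₁⟩)
  suffices R = sSup s by rw [← this]; exact hR
  refine le_antisymm hRle (sSup_le fun T hT => ?_)
  exact le_trans le_sup_right
    (hmax ⟨(isCentrallyLarge_sup hR (h T hT)).2, sup_le hRle (le_sSup hT)⟩ le_sup_left)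

theorem isCentrallyLarge_centrallyLargeJoin : Cfsg.IsCentrallyLarge (Cfsg.centrallyLargeJoin G) :=
  isCentrallyLarge_sSup _ exists_isCentrallyLarge fun _ h => h

theorem isCentrallyLarge_minimalCentrallyLargeJoin :
    Cfsg.IsCentrallyLarge (Cfsg.minimalCentrallyLargeJoin G) := by
  obtain ⟨R, hR⟩ := exists_isCentrallyLarge (G := G)
  obtain ⟨Q, -, hQ⟩ := exists_isMinimalCentrallyLarge_le hR
  exact isCentrallyLarge_sSup _ ⟨Q, hQ⟩ fun _ h => h.1

end Cfsg.Agent.CentLarge
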