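import Cfsg.Agent.CentLarge.MaxAbelian
import Mathlib.GroupTheory.Nilpotent
import Mathlib.GroupTheory.PGroup
import Mathlib.Algebra.Group.Subgroup.Order

/-!
# The interval of largest measure below a centrally large subgroup

For a centrally large `X`, the subgroups of largest measure between `C(X)` and `X` form a lattice
closed under `T ↦ C(T)`.
-/

set_option autoImplicit false

namespace Cfsg.Agent.CentLarge

open Subgroup
open scoped Pointwise commutatorElement

variable {G : Type*} [Group G]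

/-- The conjugate of a subgroup. -/
abbrev cnj (g : G) (H : Subgroup G) : Subgroup G := H.map (MulAut.conj g).toMonoidHom

theorem mem_cnj {g x : G} {H : Subgroup G} : x ∈ cnj g H ↔ g⁻¹ * x * g ∈ H := by
  rw [cnj, Subgroup.mem_map_equiv, MulAut.conj_symm_apply]

theorem cnj_le_iff {g : G} {H K : Subgroup G} : cnj g H ≤ K ↔ ∀ x ∈ H, g * x * g⁻¹ ∈ K := by
  refine ⟨fun h x hx => h (mem_cnj.2 (by simpa [mul_assoc] using hx)), fun h x hx => ?_⟩
  simpa [mul_assoc] using h _ (mem_cnj.1 hx)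

theorem cnj_eq_of_mem_normalizer {g : G} {H : Subgroup G} (hg : g ∈ normalizer (H : Set G)) :
    cnj g H = H := by
  ext x
  rw [mem_cnj]
  have := mem_normalizer_iff.1 (inv_mem hg) x
  rw [inv_inv] at this
  exact this.symm

theorem card_cnj (g : G) (H : Subgroup G) : Nat.card ↥(cnj g H) = Nat.card H :=
  (Nat.card_congr (H.equivMapOfInjective _ (MulAut.conj g).injective).toEquiv).symm

theorem cnj_eq_of_le [Finite G] {g : G} {H : Subgroup G} (h : cnj g H ≤ H) : cnj g H = H :=
  eq_of_le_of_card_ge h (card_cnj g H).ge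

theorem mem_normalizer_of_cnj {g : G} {H : Subgroup G} (h : cnj g H = H) :
    g ∈ normalizer (H : Set G) := by
  rw [mem_normalizer_iff]
  intro x
  conv_rhs => rw [← h, mem_cnj]
  simp [mul_assoc]

theorem centralizer_cnj (g : G) (H : Subgroup G) :
    centralizer ((cnj g H : Subgroup G) : Set G) = cnj g (centralizer (H : Set G)) :=
  centralizer_map (MulAut.conj g) H

/-- `g` fixes `T` elementwise modulo `Z`. -/
def Fix (Z : Subgroup G) (g : G) (T : Subgroup G) : Prop :=
  ∀ v ∈ T, v⁻¹ * (g * v * g⁻¹) ∈ Z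

theorem Fix.conj_mem {Z T : Subgroup G} {g : G} (h : Fix Z g T) {v : G} (hv : v ∈ T)
    {K : Subgroup G} (hZ : Z ≤ K) (hvK : v ∈ K) : g * v * g⁻¹ ∈ K := by
  simpa using mul_mem hvK (hZ (h v hv))

theorem Fix.mono {Z T T' : Subgroup G} {g : G} (h : Fix Z g T) (hT : T' ≤ T) : Fix Z g T' :=
  fun v hv => h v (hT hv)

/-- A subgroup of largest measure in the interval from `C(X)` to `X`. -/
def Mem (X T : Subgroup G) : Prop := IsMuMax T ∧ centralizer (X : Set G) ≤ T ∧ T ≤ X

/-- An atom of the interval. -/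
def Atom (X a : Subgroup G) : Prop :=
  Mem X a ∧ centralizer (X : Set G) ≠ a ∧
    ∀ T, Mem X T → T ≤ a → T = centralizer (X : Set G) ∨ T = a

variable [Finite G]

/-- Dedekind's law for subgroups of largest measure. -/
theorem IsMuMax.modular {H K L : Subgroup G} (hH : IsMuMax H) (hK : IsMuMax K) (hHL : H ≤ L) :
    (H ⊔ K) ⊓ L = H ⊔ (K ⊓ L) := by
  refine le_antisymm (fun x hx => ?_) (le_inf (sup_le_sup_left inf_le_left _)
    (sup_le hHL inf_le_right))
  obtain ⟨u, hu, v, hv, rfl⟩ := (Set.ext_iff.1 (hH.sup_inf hK).2.2.1 x).1 hx.1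
  exact mul_mem_sup hu ⟨hv, by simpa using mul_mem (inv_mem (hHL hu)) hx.2⟩

variable {X : Subgroup G}

theorem mem_self (hX : IsMuMax X) (hXc : centralizer (X : Set G) ≤ X) : Mem X X :=
  ⟨hX, hXc, le_rfl⟩

theorem mem_bot (hX : IsMuMax X) (hXc : centralizer (X : Set G) ≤ X) :
    Mem X (centralizer (X : Set G)) :=
  ⟨hX.centralizer_max.1, le_rfl, hXc⟩

theorem Mem.sup {S T : Subgroup G} (hS : Mem X S) (hT : Mem X T) : Mem X (S ⊔ T) :=
  ⟨(hS.1.sup_inf hT.1).1, hS.2.1.trans le_sup_left, sup_le hS.2.2 hT.2.2⟩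

theorem Mem.inf {S T : Subgroup G} (hS : Mem X S) (hT : Mem X T) : Mem X (S ⊓ T) :=
  ⟨(hS.1.sup_inf hT.1).2.1, le_inf hS.2.1 hT.2.1, inf_le_left.trans hS.2.2⟩

theorem Mem.cent_le (hX : IsMuMax X) {T : Subgroup G} (hT : Mem X T) :
    centralizer (T : Set G) ≤ X :=
  (centralizer_le (SetLike.coe_subset_coe.2 hT.2.1)).trans hX.centralizer_max.2.ge

theorem Mem.cent (hX : IsMuMax X) {T : Subgroup G} (hT : Mem X T) :
    Mem X (centralizer (T : Set G)) :=
  ⟨hT.1.centralizer_max.1, centralizer_le (SetLike.coe_subset_coe.2 hT.2.2), hT.cent_le hX⟩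

theorem Mem.cnj {T : Subgroup G} (hT : Mem X T) {g : G} (hg : g ∈ normalizer (X : Set G)) :
    Mem X (CentLarge.cnj g T) := by
  refine ⟨hT.1.map (MulAut.conj g), ?_, ?_⟩
  · conv_lhs => rw [← cnj_eq_of_mem_normalizer hg, centralizer_cnj]
    exact Subgroup.map_mono hT.2.1
  · exact (Subgroup.map_mono hT.2.2).trans (cnj_eq_of_mem_normalizer hg).le

theorem cnj_centralizer_eq {g : G} (hg : g ∈ normalizer (X : Set G)) :
    cnj g (centralizer (X : Set G)) = centralizer (X : Set G) := by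
  rw [← centralizer_cnj, cnj_eq_of_mem_normalizer hg]

theorem conj_mem_centralizer {g z : G} (hg : g ∈ normalizer (X : Set G))
    (hz : z ∈ centralizer (X : Set G)) : g * z * g⁻¹ ∈ centralizer (X : Set G) :=
  cnj_le_iff.1 (cnj_centralizer_eq hg).le z hz

theorem le_normalizer_centralizer :
    X ≤ normalizer (centralizer (X : Set G) : Set G) :=
  fun _ hg => mem_normalizer_of_cnj (cnj_centralizer_eq (le_normalizer hg))

/-- Each nontrivial member lies over an atom. -/
theorem exists_atom_le {T : Subgroup G} (hT : Mem X T) (hne : centralizer (X : Set G) ≠ T) :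
    ∃ a ≤ T, Atom X a := by
  obtain ⟨a, haT, ⟨ha, hane⟩, hmin⟩ := (Set.toFinite {S : Subgroup G |
    Mem X S ∧ centralizer (X : Set G) ≠ S}).exists_le_minimal (show T ∈ _ from ⟨hT, hne⟩)
  exact ⟨a, haT, ha, hane, fun S hS hSa => or_iff_not_imp_left.2 fun h =>
    le_antisymm hSa (hmin ⟨hS, Ne.symm h⟩ hSa)⟩

theorem Atom.lt {a : Subgroup G} (ha : Atom X a) : centralizer (X : Set G) < a :=
  lt_of_le_of_ne ha.1.2.1 ha.2.1

theorem Atom.inf_eq_bot {a T : Subgroup G} (ha : Atom X a) (hT : Mem X T) (h : ¬ a ≤ T) :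
    a ⊓ T = centralizer (X : Set G) :=
  ((ha.2.2 _ (ha.1.inf hT) inf_le_left)).resolve_right fun e => h (inf_eq_left.1 e)

theorem Atom.cnj {a : Subgroup G} (ha : Atom X a) {g : G} (hg : g ∈ normalizer (X : Set G)) :
    Atom X (CentLarge.cnj g a) := by
  refine ⟨ha.1.cnj hg, fun h => ha.2.1 ?_, fun T hT hle => ?_⟩
  · rw [← cnj_centralizer_eq hg] at h
    exact Subgroup.map_injective (MulAut.conj g).injective h
  · have hT' : T = CentLarge.cnj g (CentLarge.cnj g⁻¹ T) := by
      ext x; simp [mem_cnj, mul_assoc]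
    have hle' : CentLarge.cnj g⁻¹ T ≤ a := by
      intro x hx
      rw [mem_cnj, inv_inv] at hx
      have := mem_cnj.1 (hle hx)
      simpa [mul_assoc] using this
    rcases ha.2.2 _ (hT.cnj (inv_mem hg)) hle' with e | e
    · left; rw [hT', e, cnj_centralizer_eq hg]
    · right; rw [hT', e]

/-- A member containing a given element and below all members containing it. -/
theorem exists_closure {U : Subgroup G} (hU : Mem X U) {x : G} (hx : x ∈ U) :
    ∃ T, Mem X T ∧ x ∈ T ∧ T ≤ U ∧ ∀ S, Mem X S → x ∈ S → T ≤ S := by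
  obtain ⟨T, hTU, ⟨hT, hxT⟩, hmin⟩ := (Set.toFinite {S : Subgroup G |
    Mem X S ∧ x ∈ S}).exists_le_minimal (show U ∈ _ from ⟨hU, hx⟩)
  exact ⟨T, hT, hxT, hTU, fun S hS hxS =>
    (hmin ⟨hT.inf hS, hxT, hxS⟩ inf_le_left).trans inf_le_right⟩

variable {p : ℕ} [Fact p.Prime]

/-- A nontrivial member normalised by `M` has an element outside `C(X)` fixed modulo `C(X)`. -/
theorem exists_fix (hG : IsPGroup p G) {U M : Subgroup G} (hU : Mem X U)
    (hne : centralizer (X : Set G) ≠ U) (hM : M ≤ normalizer (U : Set G)) :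
    ∃ x ∈ U, x ∉ centralizer (X : Set G) ∧
      ∀ m ∈ M, x⁻¹ * (m * x * m⁻¹) ∈ centralizer (X : Set G) := by
  classical
  have := hG.isNilpotent
  obtain ⟨n, hn⟩ := (Subgroup.nilpotent_iff_lowerCentralSeries (G := G)).1 this
  obtain ⟨y, hy, hy'⟩ := SetLike.exists_of_lt (lt_of_le_of_ne hU.2.1 hne)
  have hex : ∃ i, ∀ v ∈ U, v ∈ (⊤ : Subgroup G).lowerCentralSeries i → v ∈ centralizer (X : Set G) :=
    ⟨n, fun v _ hv => by rw [hn, Subgroup.mem_bot] at hv; rw [hv]; exact one_mem _⟩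
  have h0 : Nat.find hex ≠ 0 := fun h =>
    hy' (Nat.find_spec hex y hy (by rw [h, Subgroup.lowerCentralSeries_zero]; exact mem_top y))
  obtain ⟨j, hj⟩ := Nat.exists_eq_succ_of_ne_zero h0
  have := Nat.find_min hex (show j < Nat.find hex by omega)
  simp only [not_forall] at this
  obtain ⟨x, hxU, hxj, hx⟩ := this
  refine ⟨x, hxU, hx, fun m hm => Nat.find_spec hex _ ?_ ?_⟩
  · exact mul_mem (inv_mem hxU) ((mem_normalizer_iff.1 (hM hm) x).1 hxU)
  · rw [hj, Subgroup.lowerCentralSeries_succ,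
      show x⁻¹ * (m * x * m⁻¹) = ⁅x⁻¹, m⁆ by simp [commutatorElement_def, mul_assoc]]
    exact commutator_mem_commutator (inv_mem hxj) (mem_top m)

/-- A member below an abelian atom's centraliser sees the atom as normal. -/
theorem Atom.le_normalizer (hG : IsPGroup p G) (hX : IsMuMax X)
    (hXc : centralizer (X : Set G) ≤ X) {a : Subgroup G} (ha : Atom X a) :
    X ≤ normalizer (a : Set G) := by
  have hK : Mem X (centralizer (a : Set G)) := ha.1.cent hX
  have hKne : centralizer (a : Set G) ≠ X := fun h => ha.2.1 (by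
    rw [ha.1.1.centralizer_max.2, h])
  obtain ⟨T, hKT, ⟨hT, hTne⟩, hmax⟩ := (Set.toFinite {S : Subgroup G |
    Mem X S ∧ S ≠ X}).exists_le_maximal (show centralizer (a : Set G) ∈ _ from ⟨hK, hKne⟩)
  have hTK : T = centralizer (a : Set G) := by
    have h1 : centralizer (T : Set G) ≤ a :=
      (centralizer_le (SetLike.coe_subset_coe.2 hKT)).trans ha.1.1.centralizer_max.2.ge
    rcases ha.2.2 _ (hT.cent hX) h1 with e | e
    · exact absurd (by rw [hT.1.centralizer_max.2, e, ← hX.centralizer_max.2]) hTne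
    · rw [hT.1.centralizer_max.2, e]
  -- a maximal subgroup of `X` above `T` is normal in `X`
  have hlt : T.subgroupOf X ≠ ⊤ := by
    rw [Ne, subgroupOf_eq_top]
    exact fun h => hTne (le_antisymm hT.2.2 h)
  obtain ⟨N, hN, hTN⟩ := (eq_top_or_exists_le_coatom (T.subgroupOf X)).resolve_left hlt
  have := (hG.to_subgroup X).isNilpotent
  have hNn : N.Normal := NormalizerCondition.normal_of_coatom _
    Group.normalizerCondition_of_isNilpotent hN
  intro g hg
  refine mem_normalizer_of_cnj ?_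
  have hgT : CentLarge.cnj g T = T := by
    by_contra hne
    have hc : Mem X (CentLarge.cnj g T) := hT.cnj (Subgroup.le_normalizer hg)
    have htop : T ⊔ CentLarge.cnj g T = X := by
      by_contra h
      have := hmax ⟨hT.sup hc, h⟩ le_sup_left
      exact hne (eq_of_le_of_card_ge (le_sup_right.trans this) (card_cnj g T).ge)
    apply hN.1
    rw [eq_top_iff]
    have hb : X ≤ N.map X.subtype := by
      refine htop.ge.trans (sup_le ?_ ?_)
      · intro v hv
        exact ⟨⟨v, hT.2.2 hv⟩, hTN (mem_subgroupOf.2 hv), rfl⟩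
      · rw [cnj_le_iff]
        intro v hv
        exact ⟨⟨g, hg⟩ * ⟨v, hT.2.2 hv⟩ * ⟨g, hg⟩⁻¹,
          hNn.conj_mem _ (hTN (mem_subgroupOf.2 hv)) _, rfl⟩
    intro v _
    obtain ⟨w, hw, e⟩ := hb v.2
    rwa [← Subtype.ext e]
  rw [hTK] at hgT
  rw [ha.1.1.centralizer_max.2, ← centralizer_cnj, hgT]

end Cfsg.Agent.CentLarge
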