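import Cfsg.Agent.CentLarge.Basic
import Cfsg.Prelude.Def_PLocal

/-!
# Centrally large subgroups against abelian subgroups of largest order; minimal centrally large
subgroups
-/

set_option autoImplicit false

namespace Cfsg.Agent.CentLarge

open Subgroup
open scoped Pointwise commutatorElement

variable {G : Type*} [Group G]

theorem isMulCommutative_iff_le_centralizer {H : Subgroup G} :
    IsMulCommutative ↥H ↔ H ≤ centralizer (H : Set G) := by
  rw [isMulCommutative_iff]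
  constructor
  · intro h x hx
    rw [mem_centralizer_iff]
    exact fun y hy => congrArg Subtype.val (h ⟨y, hy⟩ ⟨x, hx⟩)
  · intro h a b
    exact Subtype.ext (mem_centralizer_iff.1 (h b.2) a a.2)

theorem isMulCommutative_sup {H K : Subgroup G} (hH : H ≤ centralizer (H : Set G))
    (hK : K ≤ centralizer (K : Set G)) (hHK : H ≤ centralizer (K : Set G)) :
    IsMulCommutative ↥(H ⊔ K) := by
  rw [isMulCommutative_iff_le_centralizer, centralizer_sup]
  exact le_inf (sup_le hH (le_centralizer_iff.1 hHK)) (sup_le hHK hK)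

theorem mem_mul_of_mem_sup {H K : Subgroup G} (hn : K ≤ normalizer (H : Set G)) {x : G}
    (hx : x ∈ H ⊔ K) : x ∈ (H : Set G) * (K : Set G) := by
  rw [← coe_mul_of_right_le_normalizer_left H K hn] at *
  exact hx

variable [Finite G]

theorem centralizer_of_mem_maxAbelian {A : Subgroup G}
    (hA : A ∈ Cfsg.maxAbelianSubgroups G) : centralizer (A : Set G) = A := by
  have hAc := isMulCommutative_iff_le_centralizer.1 hA.1
  refine le_antisymm (fun x hx => ?_) hAc
  have hab : IsMulCommutative ↥(A ⊔ zpowers x) := by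
    refine isMulCommutative_sup hAc ?_ (le_centralizer_iff.1 (zpowers_le.2 hx))
    exact isMulCommutative_iff_le_centralizer.1 inferInstance
  have := eq_of_le_of_card_ge (le_sup_left : A ≤ A ⊔ zpowers x) (hA.2 _ hab)
  exact this ▸ mem_sup_right (mem_zpowers x)

/-- The product of a centrally large subgroup and an abelian subgroup of largest order. -/
theorem sup_maxAbelian {Q A : Subgroup G} (hQ : Cfsg.IsCentrallyLarge Q)
    (hA : A ∈ Cfsg.maxAbelianSubgroups G) :
    ((Q ⊔ A : Subgroup G) : Set G) = (Q : Set G) * (A : Set G) ∧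
      Cfsg.IsCentrallyLarge (Q ⊔ A) ∧
      (Q ⊔ A) ⊓ centralizer ((Q ⊓ A : Subgroup G) : Set G) =
        (Q ⊓ centralizer (Q : Set G)) ⊔ A ∧
      (((Q ⊓ centralizer (Q : Set G)) ⊔ A : Subgroup G) : Set G) =
        ((Q ⊓ centralizer (Q : Set G)) : Set G) * (A : Set G) := by
  rw [isCentrallyLarge_iff] at hQ
  obtain ⟨hμ, hCQ⟩ := hQ
  set Z := centralizer (Q : Set G) with hZ
  set D := Q ⊓ A with hD
  have hZQ : Q ⊓ Z = Z := inf_eq_right.2 hCQ
  rw [show (Q : Set G) ⊓ (Z : Set G) = ((Q ⊓ Z : Subgroup G) : Set G) from rfl, hZQ]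
  have hAc := isMulCommutative_iff_le_centralizer.1 hA.1
  have hCA := centralizer_of_mem_maxAbelian hA
  have hDc : D ≤ centralizer (D : Set G) :=
    inf_le_right.trans (hAc.trans (centralizer_le (SetLike.coe_subset_coe.2 inf_le_right)))
  have hZc : Z ≤ centralizer (Z : Set G) := centralizer_le (SetLike.coe_subset_coe.2 hCQ)
  have hZD : Z ≤ centralizer (D : Set G) := centralizer_le (SetLike.coe_subset_coe.2 inf_le_left)
  have hBab : IsMulCommutative ↥(Z ⊔ D) := isMulCommutative_sup hZc hDc hZD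
  -- orders
  have hinf : Z ⊓ D = Z ⊓ A := by
    rw [hD, ← inf_assoc, inf_eq_left.2 hCQ]
  have hB : Nat.card Z * Nat.card D ≤ Nat.card ↥(Z ⊔ D) * Nat.card ↥(Z ⊓ A) :=
    hinf ▸ card_mul_le_of_le le_sup_left le_sup_right
  have hBA : Nat.card ↥(Z ⊔ D) ≤ Nat.card A := hA.2 _ hBab
  have hQA : Nat.card ↥((Q : Set G) * (A : Set G)) * Nat.card D = Nat.card Q * Nat.card A :=
    card_mul_card_inf Q A
  have hle : Nat.card ↥((Q : Set G) * (A : Set G)) ≤ Nat.card ↥(Q ⊔ A) :=
    Nat.card_mono (Set.toFinite _) (set_mul_subset_sup Q A)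
  have hμ' := hμ (Q ⊔ A)
  have hC : centralizer ((Q ⊔ A : Subgroup G) : Set G) = Z ⊓ A := by rw [centralizer_sup, hCA]
  rw [mu, mu, hC, ← hZ] at hμ'
  have hd0 : 0 < Nat.card D := Nat.card_pos
  have hi0 : 0 < Nat.card ↥(Z ⊓ A) := Nat.card_pos
  have hq0 : 0 < Nat.card Q := Nat.card_pos
  set s := Nat.card ↥((Q : Set G) * (A : Set G))
  set i := Nat.card ↥(Z ⊓ A)
  set b := Nat.card ↥(Z ⊔ D)
  have k1 : Nat.card Q * Nat.card Z * Nat.card D ≤ Nat.card Q * Nat.card A * i := by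
    rw [mul_assoc, mul_assoc]
    exact Nat.mul_le_mul_left _ (hB.trans (Nat.mul_le_mul_right _ hBA))
  have k2 : Nat.card Q * Nat.card A * i ≤ Nat.card ↥(Q ⊔ A) * i * Nat.card D := by
    rw [← hQA, mul_right_comm]
    exact Nat.mul_le_mul_right _ (Nat.mul_le_mul_right _ hle)
  have k3 : Nat.card ↥(Q ⊔ A) * i * Nat.card D ≤ Nat.card Q * Nat.card Z * Nat.card D :=
    Nat.mul_le_mul_right _ hμ'
  have e1 : Nat.card ↥(Q ⊔ A) * i = Nat.card Q * Nat.card Z :=
    le_antisymm hμ' (Nat.le_of_mul_le_mul_right (k1.trans k2) hd0)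
  have e2 : Nat.card ↥(Q ⊔ A) ≤ s := by
    have : Nat.card ↥(Q ⊔ A) * i * Nat.card D ≤ s * i * Nat.card D := by
      rw [mul_right_comm s, hQA]; exact k3.trans k1
    exact Nat.le_of_mul_le_mul_right (Nat.le_of_mul_le_mul_right this hd0) hi0
  have e3 : Nat.card A ≤ b := by
    have : Nat.card Q * Nat.card A * i ≤ Nat.card Q * b * i := by
      refine k2.trans (k3.trans ?_)
      rw [mul_assoc, mul_assoc]
      exact Nat.mul_le_mul_left _ hB
    exact Nat.le_of_mul_le_mul_left (Nat.le_of_mul_le_mul_right this hi0) hq0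
  have hset : ((Q ⊔ A : Subgroup G) : Set G) = (Q : Set G) * (A : Set G) := by
    refine (Set.eq_of_subset_of_ncard_le (set_mul_subset_sup Q A) ?_ (Set.toFinite _)).symm
    rw [← Nat.card_coe_set_eq, ← Nat.card_coe_set_eq]
    exact e2
  have hCL : Cfsg.IsCentrallyLarge (Q ⊔ A) := by
    rw [isCentrallyLarge_iff]
    refine ⟨hμ.of_le ?_, ?_⟩
    · rw [mu, mu, hC, ← hZ]; exact e1.ge
    · rw [hC]; exact inf_le_right.trans le_sup_right
  have hBmax : (Z ⊔ D) ∈ Cfsg.maxAbelianSubgroups G :=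
    ⟨hBab, fun B hB' => (hA.2 B hB').trans e3⟩
  have hCB := centralizer_of_mem_maxAbelian hBmax
  have hsup : ∀ x, x ∈ (Q ⊔ A) ⊓ centralizer (D : Set G) → x ∈ (Z : Set G) * (A : Set G) := by
    rintro x ⟨hx, hxC⟩
    obtain ⟨q, hq, a, ha, rfl⟩ := (Set.ext_iff.1 hset x).1 hx
    have haC : a ∈ centralizer (D : Set G) :=
      hAc.trans (centralizer_le (SetLike.coe_subset_coe.2 inf_le_right)) ha
    have hqC : q ∈ centralizer (D : Set G) := by
      have h := mul_mem (show q * a ∈ centralizer (D : Set G) from hxC) (inv_mem haC)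
      rwa [mul_inv_cancel_right] at h
    have hqB : q ∈ Z ⊔ D := by
      rw [← hCB, centralizer_sup]
      exact ⟨le_centralizer_iff.1 (le_refl Z) hq, hqC⟩
    obtain ⟨z, hz, d, hd, rfl⟩ := mem_mul_of_mem_sup
      ((le_centralizer_iff.1 hZD).trans (centralizer_le_normalizer _)) hqB
    exact ⟨z, hz, d * a, mul_mem hd.2 ha, (mul_assoc z d a).symm⟩
  have hge : Z ⊔ A ≤ (Q ⊔ A) ⊓ centralizer (D : Set G) :=
    sup_le (le_inf (hCQ.trans le_sup_left) hZD)
      (le_inf le_sup_right (hAc.trans (centralizer_le (SetLike.coe_subset_coe.2 inf_le_right))))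
  have heq : (Q ⊔ A) ⊓ centralizer (D : Set G) = Z ⊔ A :=
    le_antisymm (fun x hx => set_mul_subset_sup Z A (hsup x hx)) hge
  exact ⟨hset, hCL, heq, Set.Subset.antisymm (fun x hx => hsup x (hge hx)) (set_mul_subset_sup Z A)⟩

theorem maxAbelian_le_centrallyLargeJoin {A : Subgroup G}
    (hA : A ∈ Cfsg.maxAbelianSubgroups G) : A ≤ Cfsg.centrallyLargeJoin G :=
  le_sup_right.trans (le_sSup (sup_maxAbelian isCentrallyLarge_centrallyLargeJoin hA).2.1)

theorem exists_maxAbelian : ∃ A, A ∈ Cfsg.maxAbelianSubgroups G := by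
  obtain ⟨A, hA, hmax⟩ := Set.exists_max_image {A : Subgroup G | IsMulCommutative ↥A}
    (fun A => Nat.card A) (Set.toFinite _)
    ⟨⊥, isMulCommutative_iff_le_centralizer.2 bot_le⟩
  exact ⟨A, hA, hmax⟩

/-- `C(Z(J))` lies in each centrally large subgroup containing `J`. -/
theorem centralizer_centerJ_le {R : Subgroup G} (hR : Cfsg.IsCentrallyLarge R)
    (hJ : Cfsg.thompsonSubgroupA G ≤ R) :
    centralizer ((Cfsg.thompsonSubgroupA G ⊓
      centralizer (Cfsg.thompsonSubgroupA G : Set G) : Subgroup G) : Set G) ≤ R := by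
  obtain ⟨A, hA⟩ := exists_maxAbelian (G := G)
  have hAJ : A ≤ Cfsg.thompsonSubgroupA G := le_sSup hA
  have h1 : centralizer (Cfsg.thompsonSubgroupA G : Set G) ≤ Cfsg.thompsonSubgroupA G :=
    ((centralizer_le (SetLike.coe_subset_coe.2 hAJ)).trans
      (centralizer_of_mem_maxAbelian hA).le).trans hAJ
  rw [inf_eq_right.2 h1]
  refine (centralizer_le (SetLike.coe_subset_coe.2
    (centralizer_le (SetLike.coe_subset_coe.2 hJ)))).trans ?_
  exact ((isCentrallyLarge_iff R).1 hR).1.centralizer_max.2.ge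

theorem sup_thompsonA {Q : Subgroup G} (hQ : Cfsg.IsCentrallyLarge Q) :
    Cfsg.IsCentrallyLarge (Q ⊔ Cfsg.thompsonSubgroupA G) := by
  obtain ⟨A, hA⟩ := exists_maxAbelian (G := G)
  have h := isCentrallyLarge_sSup ((fun A => Q ⊔ A) '' Cfsg.maxAbelianSubgroups G)
    ⟨_, A, hA, rfl⟩ (by rintro _ ⟨B, hB, rfl⟩; exact (sup_maxAbelian hQ hB).2.1)
  convert h using 1
  refine le_antisymm (sup_le ?_ (sSup_le fun B hB => ?_)) (sSup_le ?_)
  · exact le_trans le_sup_left (le_sSup ⟨A, hA, rfl⟩)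
  · exact le_trans le_sup_right (le_sSup ⟨B, hB, rfl⟩)
  · rintro _ ⟨B, hB, rfl⟩
    exact sup_le_sup_left (le_sSup hB) Q

/-- A minimal centrally large subgroup is generated by its meet with another and its centre. -/
theorem inf_sup_centralizer {Q R : Subgroup G} (hQ : Cfsg.IsMinimalCentrallyLarge Q)
    (hR : Cfsg.IsMinimalCentrallyLarge R) :
    (Q ⊓ R) ⊔ centralizer (Q : Set G) = Q := by
  obtain ⟨hQ1, hQc⟩ := (isCentrallyLarge_iff Q).1 hQ.1
  obtain ⟨hR1, hRc⟩ := (isCentrallyLarge_iff R).1 hR.1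
  have hle : (Q ⊓ R) ⊔ centralizer (Q : Set G) ≤ Q := sup_le inf_le_left hQc
  refine hQ.2 _ hle ((isCentrallyLarge_iff _).2
    ⟨((hQ1.sup_inf hR1).2.1.sup_inf hQ1.centralizer_max.1).1, ?_⟩)
  rw [centralizer_sup, ← hQ1.centralizer_max.2]
  rintro x ⟨hx, hxQ⟩
  have hx' : x ∈ (centralizer (Q : Set G) : Set G) * (centralizer (R : Set G) : Set G) :=
    (hQ1.sup_inf hR1).2.2.2 ▸ hx
  obtain ⟨a, ha, b, hb, rfl⟩ := hx'
  have hbQ : b ∈ Q := by simpa using mul_mem (inv_mem (hQc ha)) hxQ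
  exact mul_mem (mem_sup_right ha) (mem_sup_left ⟨hbQ, hRc hb⟩)

theorem commutator_le_inf {Q R : Subgroup G} (hQ : Cfsg.IsMinimalCentrallyLarge Q)
    (hR : Cfsg.IsMinimalCentrallyLarge R) : ⁅Q, Q⁆ ≤ ⁅Q ⊓ R, Q ⊓ R⁆ := by
  have hc : centralizer (Q : Set G) ≤ Q := ((isCentrallyLarge_iff Q).1 hQ.1).2
  have hn : centralizer (Q : Set G) ≤ normalizer ((Q ⊓ R : Subgroup G) : Set G) :=
    (centralizer_le (SetLike.coe_subset_coe.2 inf_le_left)).trans (centralizer_le_normalizer _)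
  rw [commutator_le]
  intro x hx y hy
  rw [← inf_sup_centralizer hQ hR] at hx hy
  obtain ⟨a, ha, z, hz, rfl⟩ := mem_mul_of_mem_sup hn hx
  obtain ⟨b, hb, w, hw, rfl⟩ := mem_mul_of_mem_sup hn hy
  have h1 : ∀ u ∈ Q, Commute u z := fun u hu => mem_centralizer_iff.1 hz u hu
  have h2 : ∀ u ∈ Q, Commute u w := fun u hu => mem_centralizer_iff.1 hw u hu
  have e : ⁅a * z, b * w⁆ = ⁅a, b⁆ := by
    simp only [commutatorElement_def]
    have e1 : z * (b * w) * z⁻¹ = b * w := by
      rw [← (h1 _ (mul_mem hb.1 (hc hw))).eq, mul_inv_cancel_right]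
    have e2 : w * a⁻¹ * w⁻¹ = a⁻¹ := by
      rw [← (h2 _ (inv_mem ha.1)).eq, mul_inv_cancel_right]
    calc a * z * (b * w) * (a * z)⁻¹ * (b * w)⁻¹
        = a * (z * (b * w) * z⁻¹) * a⁻¹ * (w⁻¹ * b⁻¹) := by group
      _ = a * (b * w) * a⁻¹ * (w⁻¹ * b⁻¹) := by rw [e1]
      _ = a * b * (w * a⁻¹ * w⁻¹) * b⁻¹ := by group
      _ = a * b * a⁻¹ * b⁻¹ := by rw [e2]
  rw [e]
  exact commutator_mem_commutator ha hb

theorem card_eq_of_minimal {Q R : Subgroup G} (hQ : Cfsg.IsMinimalCentrallyLarge Q)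
    (hR : Cfsg.IsMinimalCentrallyLarge R) :
    Nat.card Q = Nat.card R ∧
      Nat.card ↥(centralizer (Q : Set G)) = Nat.card ↥(centralizer (R : Set G)) := by
  have key : ∀ {Q R : Subgroup G}, Cfsg.IsMinimalCentrallyLarge Q →
      Cfsg.IsMinimalCentrallyLarge R →
      Nat.card Q * Nat.card ↥((Q ⊓ R) ⊓ centralizer ((Q ⊓ R : Subgroup G) : Set G)) =
        Nat.card ↥(Q ⊓ R) * Nat.card ↥(centralizer (Q : Set G)) := by
    intro Q R hQ hR
    have hn : centralizer (Q : Set G) ≤ normalizer ((Q ⊓ R : Subgroup G) : Set G) :=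
      (centralizer_le (SetLike.coe_subset_coe.2 inf_le_left)).trans (centralizer_le_normalizer _)
    have he : (Q ⊓ R) ⊓ centralizer (Q : Set G) =
        (Q ⊓ R) ⊓ centralizer ((Q ⊓ R : Subgroup G) : Set G) := by
      refine le_antisymm (inf_le_inf_left _
        (centralizer_le (SetLike.coe_subset_coe.2 inf_le_left))) fun x hx => ⟨hx.1, ?_⟩
      have hxc : x ∈ centralizer (((Q ⊓ R) ⊔ centralizer (Q : Set G) : Subgroup G) : Set G) := by
        rw [centralizer_sup]
        exact ⟨hx.2, le_centralizer_iff.1 (le_refl (centralizer (Q : Set G))) hx.1.1⟩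
      rwa [inf_sup_centralizer hQ hR] at hxc
    have h4 := card_mul_card_inf (Q ⊓ R) (centralizer (Q : Set G))
    rw [he, ← coe_mul_of_right_le_normalizer_left _ _ hn, SetLike.coe_sort_coe,
      inf_sup_centralizer hQ hR] at h4
    exact h4
  have h1 := key hQ hR
  have h2 := key hR hQ
  rw [inf_comm R Q] at h2
  have h3 : mu Q = mu R :=
    ((isCentrallyLarge_iff Q).1 hQ.1).1.mu_eq ((isCentrallyLarge_iff R).1 hR.1).1
  unfold mu at h3
  have hi : 0 < Nat.card ↥((Q ⊓ R) ⊓ centralizer ((Q ⊓ R : Subgroup G) : Set G)) := Nat.card_pos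
  set q := Nat.card Q
  set r := Nat.card R
  set z := Nat.card ↥(centralizer (Q : Set G))
  set w := Nat.card ↥(centralizer (R : Set G))
  set d := Nat.card ↥(Q ⊓ R)
  set i := Nat.card ↥((Q ⊓ R) ⊓ centralizer ((Q ⊓ R : Subgroup G) : Set G))
  have hz0 : 0 < z := Nat.card_pos
  have hd0 : 0 < d := Nat.card_pos
  have hzw : z = w := by
    have : d * (z * z) = d * (w * w) := by
      calc d * (z * z) = d * z * z := (mul_assoc _ _ _).symm
        _ = q * i * z := by rw [h1]
        _ = q * z * i := mul_right_comm _ _ _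
        _ = r * w * i := by rw [h3]
        _ = r * i * w := mul_right_comm _ _ _
        _ = d * w * w := by rw [h2]
        _ = d * (w * w) := mul_assoc _ _ _
    exact Nat.mul_self_inj.1 (Nat.eq_of_mul_eq_mul_left hd0 this)
  exact ⟨Nat.eq_of_mul_eq_mul_right hz0 (by rw [h3, hzw]), hzw⟩

theorem minimal_iff_maxAbelian {Q : Subgroup G} (hQ : Cfsg.IsMinimalCentrallyLarge Q)
    (hab : IsMulCommutative ↥Q) (X : Subgroup G) :
    Cfsg.IsMinimalCentrallyLarge X ↔ X ∈ Cfsg.maxAbelianSubgroups G := by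
  obtain ⟨hμ, hc⟩ := (isCentrallyLarge_iff Q).1 hQ.1
  have hCQ : centralizer (Q : Set G) = Q :=
    le_antisymm hc (isMulCommutative_iff_le_centralizer.1 hab)
  have hmax : ∀ B : Subgroup G, IsMulCommutative ↥B → Nat.card B ≤ Nat.card Q := by
    intro B hB
    have h := hμ B
    rw [mu, mu, hCQ] at h
    have hB' : Nat.card B * Nat.card B ≤
        Nat.card B * Nat.card ↥(centralizer (B : Set G)) :=
      Nat.mul_le_mul_left _ (card_le_of_le (isMulCommutative_iff_le_centralizer.1 hB))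
    exact Nat.mul_self_le_mul_self_iff.1 (hB'.trans h)
  constructor
  · intro hX
    obtain ⟨e1, e2⟩ := card_eq_of_minimal hX hQ
    rw [hCQ, ← e1] at e2
    have hcX : centralizer (X : Set G) = X :=
      eq_of_le_of_card_ge ((isCentrallyLarge_iff X).1 hX.1).2 e2.ge
    exact ⟨isMulCommutative_iff_le_centralizer.2 hcX.ge, fun B hB => (hmax B hB).trans e1.ge⟩
  · intro hX
    have e : Nat.card X = Nat.card Q := le_antisymm (hmax X hX.1) (hX.2 Q hab)
    have hcX := centralizer_of_mem_maxAbelian hX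
    refine ⟨(isCentrallyLarge_iff X).2 ⟨hμ.of_le ?_, hcX.le⟩, fun R hRX hR => ?_⟩
    · rw [mu, mu, hcX, hCQ, e]
    · obtain ⟨hμR, hcR⟩ := (isCentrallyLarge_iff R).1 hR
      have hXR : X ≤ centralizer (R : Set G) :=
        (isMulCommutative_iff_le_centralizer.1 hX.1).trans
          (centralizer_le (SetLike.coe_subset_coe.2 hRX))
      exact le_antisymm hRX (hXR.trans hcR)

end Cfsg.Agent.CentLarge
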