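import Cfsg.Agent.CentLarge.Interval

/-!
# A minimal centrally large subgroup normalised by `J` and by the others
-/

set_option autoImplicit false

namespace Cfsg.Agent.CentLarge

open Subgroup
open scoped Pointwise

variable {G : Type*} [Group G] [Finite G] {p : ℕ} [Fact p.Prime] {X : Subgroup G}

/-- `g` moves each isotropic atom, if at all, only along an isotropic atom that it fixes
elementwise modulo `C(X)`. -/
def Shears (X : Subgroup G) (g : G) : Prop :=
  ∀ a : Subgroup G, Atom X a → a ≤ centralizer (a : Set G) → cnj g a = a ∨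
    ∃ w : Subgroup G, Atom X w ∧ w ≤ centralizer (w : Set G) ∧
      Fix (centralizer (X : Set G)) g w ∧ cnj g a ≤ a ⊔ w ∧ w ≤ a ⊔ cnj g a

theorem shears_of_mem (hG : IsPGroup p G) (hX : IsMuMax X) (hXc : centralizer (X : Set G) ≤ X)
    {g : G} (hg : g ∈ X) : Shears X g :=
  fun _a ha _ => Or.inl (cnj_eq_of_mem_normalizer (ha.le_normalizer hG hX hXc hg))

/-- The general source of shears. -/
theorem shears_of_fix (hG : IsPGroup p G) (hX : IsMuMax X) (hXc : centralizer (X : Set G) ≤ X)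
    (S : Subgroup G) (hS : S ≤ normalizer (X : Set G)) (B : Subgroup G)
    (hBZ : centralizer (X : Set G) ≤ B) (hBX : B ≤ X) (hBc : centralizer (B : Set G) ≤ B)
    (hfix : ∀ g ∈ S, Fix (centralizer (X : Set G)) g B)
    (hmem : ∀ a : Subgroup G, Atom X a → a ≤ centralizer (a : Set G) → ∀ g ∈ S,
      IsMuMax ((centralizer (a : Set G) ⊓ centralizer (cnj g a : Set G)) ⊔ B))
    {g : G} (hg : g ∈ S) : Shears X g := by
  intro a ha hai
  by_cases hfx : cnj g a = a
  · exact Or.inl hfx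
  right
  have ha' : Atom X (cnj g a) := ha.cnj (hS hg)
  have hK := ha.1.cent hX
  have hK' := ha'.1.cent hX
  have hT : Mem X ((centralizer (a : Set G) ⊓ centralizer (cnj g a : Set G)) ⊔ B) :=
    ⟨hmem a ha hai g hg, hBZ.trans le_sup_right, sup_le (inf_le_left.trans hK.2.2) hBX⟩
  have hCT : centralizer ((((centralizer (a : Set G) ⊓ centralizer (cnj g a : Set G)) ⊔ B :
      Subgroup G)) : Set G) = (a ⊔ cnj g a) ⊓ centralizer (B : Set G) := by
    rw [centralizer_sup, hK.1.centralizer_inf_eq hK'.1, ← ha.1.1.centralizer_max.2,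
      ← ha'.1.1.centralizer_max.2]
  set w := centralizer ((((centralizer (a : Set G) ⊓ centralizer (cnj g a : Set G)) ⊔ B :
      Subgroup G)) : Set G) with hw
  have hwm : Mem X w := hT.cent hX
  have hwB : w ≤ B := hCT.le.trans (inf_le_right.trans hBc)
  have hwiso : w ≤ centralizer (w : Set G) := by
    rw [← hT.1.centralizer_max.2]
    exact hwB.trans le_sup_right
  have hwI : w ≤ a ⊔ cnj g a := hCT.le.trans inf_le_left
  have hfixed : a ≤ B → False := fun h =>
    hfx (cnj_eq_of_le (cnj_le_iff.2 fun x hx => (hfix g hg).conj_mem (h hx) ha.1.2.1 hx))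
  have hwne : centralizer (X : Set G) ≠ w := by
    intro h
    have hTX : (centralizer (a : Set G) ⊓ centralizer (cnj g a : Set G)) ⊔ B = X := by
      rw [hT.1.centralizer_max.2, ← hw, ← h, ← hX.centralizer_max.2]
    have hn : ∀ {c : Subgroup G}, Atom X c → ∀ y ∈ X,
        cnj y (centralizer (c : Set G)) = centralizer (c : Set G) := fun hc y hy => by
      rw [← centralizer_cnj, cnj_eq_of_mem_normalizer (hc.le_normalizer hG hX hXc hy)]
    have hBn : B ≤ normalizer
        ((centralizer (a : Set G) ⊓ centralizer (cnj g a : Set G) : Subgroup G) : Set G) := by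
      intro y hy
      refine mem_normalizer_of_cnj ?_
      rw [cnj, Subgroup.map_inf _ _ _ (MulAut.conj y).injective]
      rw [show (centralizer (a : Set G)).map (MulAut.conj y).toMonoidHom = _ from hn ha y (hBX hy),
        show (centralizer (cnj g a : Set G)).map (MulAut.conj y).toMonoidHom = _ from
          hn ha' y (hBX hy)]
    have hKK : centralizer (a : Set G) ≤ centralizer (cnj g a : Set G) := by
      intro k hk
      obtain ⟨d, hd, b, hb, rfl⟩ := mem_mul_of_mem_sup hBn (hTX.ge (hK.2.2 hk))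
      refine mul_mem hd.2 ?_
      have hbK : b ∈ centralizer (a : Set G) := by simpa using mul_mem (inv_mem (Subgroup.mem_inf.1 hd).1) hk
      rw [centralizer_cnj, mem_cnj]
      simpa using (hfix g⁻¹ (inv_mem hg)).conj_mem hb hK.2.1 hbK
    refine hfx ?_
    have := eq_of_le_of_card_ge hKK (by rw [centralizer_cnj, card_cnj])
    rw [ha'.1.1.centralizer_max.2, ← this, ← ha.1.1.centralizer_max.2]
  have hawZ : a ⊓ w = centralizer (X : Set G) :=
    ha.inf_eq_bot hwm fun h => hfixed (h.trans hwB)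
  have key : ∀ V, Mem X V → V ≤ a ⊔ cnj g a → ¬ cnj g a ≤ a ⊔ V → V ≤ a := by
    intro V hV hVI hn
    have hm := ha.1.1.modular ha'.1.1 (L := a ⊔ V) le_sup_left
    rw [ha'.inf_eq_bot (ha.1.sup hV) hn, sup_eq_left.2 ha.1.2.1,
      inf_eq_right.2 (sup_le le_sup_left hVI)] at hm
    exact le_sup_right.trans hm.le
  refine ⟨w, ⟨hwm, hwne, fun V hV hVw => ?_⟩, hwiso, (hfix g hg).mono hwB, ?_, hwI⟩
  · by_cases h : cnj g a ≤ a ⊔ V
    · right
      have hm := hV.1.modular ha.1.1 (L := w) hVw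
      rw [hawZ, sup_eq_left.2 hV.2.1, sup_comm V a,
        inf_eq_right.2 (hwI.trans (sup_le le_sup_left h))] at hm
      exact hm.symm
    · left
      exact le_antisymm (hawZ ▸ le_inf (key V hV (hVw.trans hwI) h) hVw) hV.2.1
  · by_contra h
    refine hwne ?_
    rw [← hawZ, inf_eq_right.2 (key w hwm hwI h)]

/-- A subgroup centralising a centrally large subgroup shears. -/
theorem shears_of_centralizer (hG : IsPGroup p G) (hX : IsMuMax X)
    (hXc : centralizer (X : Set G) ≤ X) {R : Subgroup G} (hR : Cfsg.IsCentrallyLarge R)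
    (hn : centralizer (R : Set G) ≤ normalizer (X : Set G)) {g : G}
    (hg : g ∈ centralizer (R : Set G)) : Shears X g := by
  obtain ⟨hRm, hRc⟩ := (isCentrallyLarge_iff R).1 hR
  have hZm := (mem_bot hX hXc).1
  have hRZ := (hRm.sup_inf hZm).1
  have hW : Mem X ((R ⊔ centralizer (X : Set G)) ⊓ X) :=
    ⟨(hRZ.sup_inf hX).2.1, le_inf le_sup_right hXc, inf_le_right⟩
  refine shears_of_fix hG hX hXc (centralizer (R : Set G)) hn _ hW.2.1 hW.2.2 ?_ ?_ ?_ hg
  · rw [hRZ.centralizer_inf_eq hX, centralizer_sup, ← hX.centralizer_max.2]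
    exact sup_le (inf_le_inf_right _ (hRc.trans le_sup_left)) hW.2.1
  · intro c hc v hv
    obtain ⟨r, hr, z, hz, rfl⟩ := (Set.ext_iff.1 (hRm.sup_inf hZm).2.2.1 v).1 hv.1
    have e : c * r * c⁻¹ = r := by
      rw [← mem_centralizer_iff.1 hc r hr, mul_inv_cancel_right]
    have := mul_mem (inv_mem hz) (conj_mem_centralizer (hn hc) hz)
    have e' : (r * z)⁻¹ * (c * (r * z) * c⁻¹) = z⁻¹ * (c * z * c⁻¹) := by
      calc (r * z)⁻¹ * (c * (r * z) * c⁻¹) = z⁻¹ * r⁻¹ * ((c * r * c⁻¹) * (c * z * c⁻¹)) := by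
            group
        _ = _ := by rw [e]; group
    simpa only [e'] using this
  · intro a ha _ c hc
    exact (((ha.1.cent hX).inf ((ha.cnj (hn hc)).1.cent hX)).sup hW).1

/-- An abelian subgroup of largest order shears. -/
theorem shears_of_maxAbelian (hG : IsPGroup p G) (hX : IsMuMax X)
    (hXc : centralizer (X : Set G) ≤ X) {A : Subgroup G} (hA : A ∈ Cfsg.maxAbelianSubgroups G)
    (hn : A ≤ normalizer (X : Set G)) {g : G} (hg : g ∈ A) : Shears X g := by
  have hAc := isMulCommutative_iff_le_centralizer.1 hA.1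
  set Z := centralizer (X : Set G) with hZdef
  have hZc : Z ≤ centralizer (Z : Set G) := centralizer_le (SetLike.coe_subset_coe.2 hXc)
  have hAnZ : A ≤ normalizer (Z : Set G) := fun a ha =>
    mem_normalizer_of_cnj (cnj_centralizer_eq (hn ha))
  have hDnZ : A ⊓ X ≤ normalizer (Z : Set G) := inf_le_left.trans hAnZ
  obtain ⟨hXA, hXAcl, hmid, -⟩ := sup_maxAbelian ((isCentrallyLarge_iff X).2 ⟨hX, hXc⟩) hA
  have hBX : Z ⊔ (A ⊓ X) ≤ X := sup_le hXc inf_le_right
  have hBab : Z ⊔ (A ⊓ X) ≤ centralizer ((Z ⊔ (A ⊓ X) : Subgroup G) : Set G) :=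
    isMulCommutative_iff_le_centralizer.1 (isMulCommutative_sup hZc
      (inf_le_left.trans (hAc.trans (centralizer_le (SetLike.coe_subset_coe.2 inf_le_left))))
      (centralizer_le (SetLike.coe_subset_coe.2 inf_le_right)))
  have hBc : centralizer ((Z ⊔ (A ⊓ X) : Subgroup G) : Set G) ≤ Z ⊔ (A ⊓ X) := by
    rw [centralizer_sup, ← hX.centralizer_max.2]
    rintro v ⟨hvX, hvD⟩
    have hv : v ∈ (X ⊔ A) ⊓ centralizer ((X ⊓ A : Subgroup G) : Set G) :=
      ⟨mem_sup_left hvX, by rw [inf_comm]; exact hvD⟩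
    rw [hmid, ← hZdef, inf_eq_right.2 hXc] at hv
    obtain ⟨z, hz, a, ha, rfl⟩ := mem_mul_of_mem_sup hAnZ hv
    exact mul_mem_sup hz ⟨ha, by simpa using mul_mem (inv_mem (hXc hz)) hvX⟩
  -- `Z(A ∩ X)` also has the largest order
  have hBcard : Nat.card ↥(Z ⊔ (A ⊓ X)) = Nat.card A := by
    have h1 : mu (X ⊔ A) = mu X := ((isCentrallyLarge_iff _).1 hXAcl).1.mu_eq hX
    rw [mu, mu, centralizer_sup, centralizer_of_mem_maxAbelian hA, ← hZdef] at h1
    have h2 := card_mul_card_inf X A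
    rw [← hXA, SetLike.coe_sort_coe] at h2
    have h3 := card_mul_card_inf Z (A ⊓ X)
    rw [← coe_mul_of_right_le_normalizer_left _ _ hDnZ, SetLike.coe_sort_coe] at h3
    have h4 : Z ⊓ (A ⊓ X) = Z ⊓ A := by
      rw [inf_comm A X, ← inf_assoc, inf_eq_left.2 hXc]
    rw [h4] at h3
    rw [inf_comm X A] at h2
    have hX0 : 0 < Nat.card X := Nat.card_pos
    have hi : 0 < Nat.card ↥(Z ⊓ A) := Nat.card_pos
    apply Nat.eq_of_mul_eq_mul_right hi
    apply Nat.eq_of_mul_eq_mul_left hX0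
    rw [h3, ← mul_assoc, ← mul_assoc, ← h1, ← h2]
    ring
  have hsup : ∀ T : Subgroup G, Mem X T → centralizer (T : Set G) ≤ T →
      IsMuMax (T ⊔ (Z ⊔ (A ⊓ X))) := by
    intro T hT hTc
    obtain ⟨hs, hcl, -, -⟩ := sup_maxAbelian ((isCentrallyLarge_iff T).2 ⟨hT.1, hTc⟩) hA
    have e : T ⊔ (Z ⊔ (A ⊓ X)) = (T ⊔ A) ⊓ X := by
      refine le_antisymm (sup_le (le_inf le_sup_left hT.2.2) (sup_le
        (le_inf (hT.2.1.trans le_sup_left) hXc) (le_inf (inf_le_left.trans le_sup_right)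
          inf_le_right))) fun v hv => ?_
      obtain ⟨t, ht, a, ha, rfl⟩ := (Set.ext_iff.1 hs v).1 hv.1
      exact mul_mem_sup ht (mem_sup_right ⟨ha, by simpa using mul_mem (inv_mem (hT.2.2 ht)) hv.2⟩)
    rw [e]
    exact (((isCentrallyLarge_iff _).1 hcl).1.sup_inf hX).2.1
  have hfix : ∀ c ∈ A, Fix Z c (Z ⊔ (A ⊓ X)) := by
    intro c hc v hv
    obtain ⟨z, hz, d, hd, rfl⟩ := mem_mul_of_mem_sup hDnZ hv
    have e : c * d * c⁻¹ = d := by
      rw [← mem_centralizer_iff.1 (hAc hc) d hd.1, mul_inv_cancel_right]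
    have hm := conj_mem_centralizer
      (inv_mem (Subgroup.le_normalizer (H := X) hd.2))
      (mul_mem (inv_mem hz) (conj_mem_centralizer (hn hc) hz))
    have e' : (z * d)⁻¹ * (c * (z * d) * c⁻¹) = d⁻¹ * (z⁻¹ * (c * z * c⁻¹)) * d⁻¹⁻¹ := by
      calc (z * d)⁻¹ * (c * (z * d) * c⁻¹)
          = d⁻¹ * (z⁻¹ * (c * z * c⁻¹)) * (c * d * c⁻¹) := by group
        _ = _ := by rw [e]; group
    simpa only [e'] using hm
  refine shears_of_fix hG hX hXc A hn _ le_sup_left hBX hBc hfix ?_ hg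
  intro a ha hai c hc
  set B := Z ⊔ (A ⊓ X) with hB
  have ha' : Atom X (cnj c a) := ha.cnj (hn hc)
  have hK := ha.1.cent hX
  have hK' := ha'.1.cent hX
  have hD := hK.inf hK'
  have hCD : centralizer ((centralizer (a : Set G) ⊓ centralizer (cnj c a : Set G) :
      Subgroup G) : Set G) = a ⊔ cnj c a := by
    rw [hK.1.centralizer_inf_eq hK'.1, ← ha.1.1.centralizer_max.2, ← ha'.1.1.centralizer_max.2]
  by_cases hcm : cnj c a ≤ centralizer (a : Set G)
  · refine hsup _ hD (hCD.le.trans (sup_le (le_inf hai (le_centralizer_iff.1 hcm))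
      (le_inf hcm ?_)))
    rw [centralizer_cnj]
    exact Subgroup.map_mono hai
  set a' := cnj c a with ha'def
  set K := centralizer (a : Set G) with hKdef
  set D := K ⊓ centralizer (a' : Set G) with hDdef
  set H := a ⊔ a' with hHdef
  have haK' : a ⊓ centralizer (a' : Set G) = Z :=
    ha.inf_eq_bot hK' fun h => hcm (le_centralizer_iff.1 h)
  have ha'K : a' ⊓ K = Z := ha'.inf_eq_bot hK hcm
  have haD : a ⊓ D ≤ Z := haK' ▸ inf_le_inf_left a inf_le_right
  have hBK : ¬ B ≤ K := by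
    intro h
    have h1 : a ≤ B := by
      rw [ha.1.1.centralizer_max.2]
      exact (centralizer_le (SetLike.coe_subset_coe.2 h)).trans hBc
    have h2 : a' = a := cnj_eq_of_le
      (cnj_le_iff.2 fun x hx => (hfix c hc).conj_mem (h1 hx) ha.1.2.1 hx)
    exact hcm (h2.trans_le hai)
  have hB0D : B ⊓ K ≤ D := by
    intro v hv
    refine Subgroup.mem_inf.2 ⟨hv.2, ?_⟩
    rw [ha'def, centralizer_cnj, mem_cnj]
    simpa using (hfix c⁻¹ (inv_mem hc)).conj_mem hv.1 hK.2.1 hv.2
  have hCK : centralizer (K : Set G) ≤ K := ha.1.1.centralizer_max.2 ▸ hai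
  have hKB : K ⊔ B = X := by
    have hm : Mem X (K ⊔ B) := ⟨hsup K hK hCK, hK.2.1.trans le_sup_left, sup_le hK.2.2 hBX⟩
    have h1 : centralizer ((K ⊔ B : Subgroup G) : Set G) ≤ a :=
      (centralizer_le (SetLike.coe_subset_coe.2 le_sup_left)).trans ha.1.1.centralizer_max.2.ge
    rcases ha.2.2 _ (hm.cent hX) h1 with e | e
    · rw [hm.1.centralizer_max.2, e, ← hX.centralizer_max.2]
    · exact absurd (le_sup_right.trans (hm.1.centralizer_max.2.trans (by rw [e])).le) hBK
  have hBnK : B ≤ normalizer (K : Set G) := fun y hy => mem_normalizer_of_cnj (by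
    rw [hKdef, ← centralizer_cnj,
      cnj_eq_of_mem_normalizer (ha.le_normalizer hG hX hXc (hBX hy))])
  have e1 := card_mul_card_inf K B
  rw [← coe_mul_of_right_le_normalizer_left _ _ hBnK, SetLike.coe_sort_coe, hKB,
    inf_comm K B] at e1
  have e2 : Nat.card a * Nat.card K = Nat.card X * Nat.card Z := ha.1.1.mu_eq hX
  have e3 : Nat.card ↥(B ⊓ K) * Nat.card a = Nat.card Z * Nat.card B := by
    apply Nat.eq_of_mul_eq_mul_left (Nat.card_pos : 0 < Nat.card X)
    calc Nat.card X * (Nat.card ↥(B ⊓ K) * Nat.card a)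
        = Nat.card X * Nat.card ↥(B ⊓ K) * Nat.card a := (mul_assoc _ _ _).symm
      _ = Nat.card K * Nat.card B * Nat.card a := by rw [e1]
      _ = Nat.card a * Nat.card K * Nat.card B := by ring
      _ = _ := by rw [e2]; ring
  -- `a (B ∩ K)` is abelian of largest order
  have haB : a ≤ centralizer ((B ⊓ K : Subgroup G) : Set G) :=
    le_centralizer_iff.1 inf_le_right
  have hab : IsMulCommutative ↥(a ⊔ (B ⊓ K)) :=
    isMulCommutative_sup hai (inf_le_left.trans (hBab.trans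
      (centralizer_le (SetLike.coe_subset_coe.2 inf_le_left)))) haB
  have hcard : Nat.card B ≤ Nat.card ↥(a ⊔ (B ⊓ K)) := by
    have h1 := card_mul_le_of_le (H := a) (K := B ⊓ K) (L := a ⊔ (B ⊓ K)) le_sup_left le_sup_right
    have h2 : Nat.card ↥(a ⊓ (B ⊓ K)) ≤ Nat.card Z :=
      card_le_of_le ((inf_le_inf_left a hB0D).trans haD)
    apply Nat.le_of_mul_le_mul_left (c := Nat.card Z) _ Nat.card_pos
    rw [← e3, mul_comm]
    exact h1.trans (by rw [mul_comm]; exact Nat.mul_le_mul_right _ h2)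
  have hmaxab : a ⊔ (B ⊓ K) ∈ Cfsg.maxAbelianSubgroups G :=
    ⟨hab, fun C hC => (hA.2 C hC).trans (hBcard.ge.trans hcard)⟩
  have hCB0 : ∀ y ∈ D, y ∈ centralizer ((B ⊓ K : Subgroup G) : Set G) → y ∈ B ⊓ K := by
    intro y hy hyc
    have h1 : y ∈ a ⊔ (B ⊓ K) := by
      rw [← centralizer_of_mem_maxAbelian hmaxab, centralizer_sup]
      exact ⟨hy.1, hyc⟩
    obtain ⟨α, hα, b, hb, rfl⟩ := mem_mul_of_mem_sup
      ((inf_le_left.trans hBX).trans (ha.le_normalizer hG hX hXc)) h1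
    have hαZ : α ∈ Z := haD ⟨hα, by simpa using mul_mem hy (inv_mem (hB0D hb))⟩
    exact mul_mem (⟨mem_sup_left hαZ, hK.2.1 hαZ⟩ : α ∈ B ⊓ K) hb
  have hHm : Mem X H := ha.1.sup ha'.1
  have hHD : H ⊓ D ≤ Z := by
    rintro v ⟨hv, hvD⟩
    obtain ⟨α, hα, β, hβ, rfl⟩ := (Set.ext_iff.1 (ha.1.1.sup_inf ha'.1.1).2.2.1 v).1 hv
    have hβZ : β ∈ Z := ha'K.le ⟨hβ, by simpa using mul_mem (inv_mem (hai hα)) (Subgroup.mem_inf.1 hvD).1⟩
    exact mul_mem (haD (Subgroup.mem_inf.2 ⟨hα, by simpa using (mul_mem (show α * β ∈ D from hvD) (inv_mem (hD.2.1 hβZ)) : α * β * β⁻¹ ∈ D)⟩)) hβZ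
  have hCH : centralizer (H : Set G) = D := by
    rw [← hCD, ← hD.1.centralizer_max.2]
  have hHDX : H ⊔ D = X := by
    have h1 : centralizer ((H ⊔ D : Subgroup G) : Set G) = Z := by
      rw [centralizer_sup, hCH, hCD, inf_comm]
      exact le_antisymm hHD (le_inf hHm.2.1 hD.2.1)
    rw [(hHm.sup hD).1.centralizer_max.2, h1, ← hX.centralizer_max.2]
  have hsub : (B : Set G) ⊆ ((B ⊓ H : Subgroup G) : Set G) * ((B ⊓ K : Subgroup G) : Set G) := by
    intro b hb
    obtain ⟨h, hh, y, hy, rfl⟩ :=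
      (Set.ext_iff.1 (hHm.1.sup_inf hD.1).2.2.1 b).1 (hHDX.ge (hBX hb))
    have hhc : h ∈ centralizer ((B ⊓ K : Subgroup G) : Set G) :=
      centralizer_le (SetLike.coe_subset_coe.2 hB0D) (hCD.ge hh)
    have hbc : h * y ∈ centralizer ((B ⊓ K : Subgroup G) : Set G) :=
      centralizer_le (SetLike.coe_subset_coe.2 inf_le_left) (hBab hb)
    have hyB := hCB0 y hy (by simpa using mul_mem (inv_mem hhc) hbc)
    exact Set.mul_mem_mul ⟨by simpa using mul_mem hb (inv_mem hyB.1), hh⟩ hyB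
  have e4 : Nat.card a ≤ Nat.card ↥(B ⊓ H) := by
    have h1 := card_mul_card_inf (B ⊓ H) (B ⊓ K)
    have h2 : Nat.card Z ≤ Nat.card ↥((B ⊓ H) ⊓ (B ⊓ K)) :=
      card_le_of_le (le_inf (le_inf le_sup_left hHm.2.1) (le_inf le_sup_left hK.2.1))
    have h3 := Nat.mul_le_mul (Nat.card_mono (Set.toFinite _) hsub) h2
    rw [SetLike.coe_sort_coe, h1, mul_comm, ← e3, mul_comm (Nat.card ↥(B ⊓ H))] at h3
    exact Nat.le_of_mul_le_mul_left h3 Nat.card_pos
  refine hD.1.of_le (Nat.le_of_mul_le_mul_left (c := Nat.card Z) ?_ Nat.card_pos)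
  have hZaa : a ⊓ a' = Z := le_antisymm
    (ha'K ▸ le_inf inf_le_right (inf_le_left.trans hai)) (le_inf ha.1.2.1 ha'.1.2.1)
  have e5 : Nat.card H * Nat.card Z = Nat.card a * Nat.card a := by
    have h := card_mul_card_inf a a'
    rw [← (ha.1.1.sup_inf ha'.1.1).2.2.1, SetLike.coe_sort_coe, hZaa] at h
    rw [hHdef, h, ha'def, card_cnj]
  have e6 : Nat.card D * Nat.card ↥(B ⊓ H) ≤ Nat.card ↥(D ⊔ B) * Nat.card Z := by
    refine (card_mul_le_of_le (le_sup_left : D ≤ D ⊔ B) (inf_le_left.trans le_sup_right)).trans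
      (Nat.mul_le_mul_left _ (card_le_of_le ?_))
    rintro v ⟨hvD, -, hvH⟩
    exact hHD ⟨hvH, hvD⟩
  have e7 : Nat.card ↥(B ⊓ H) ≤ Nat.card ↥(centralizer ((D ⊔ B : Subgroup G) : Set G)) := by
    refine card_le_of_le ?_
    rw [centralizer_sup, hCD]
    exact le_inf inf_le_right (inf_le_left.trans hBab)
  calc Nat.card Z * mu D = Nat.card D * (Nat.card H * Nat.card Z) := by
        rw [mu, hCD]; ring
    _ ≤ Nat.card D * (Nat.card ↥(B ⊓ H) * Nat.card ↥(B ⊓ H)) := by
        rw [e5]; exact Nat.mul_le_mul_left _ (Nat.mul_le_mul e4 e4)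
    _ = Nat.card D * Nat.card ↥(B ⊓ H) * Nat.card ↥(B ⊓ H) := (mul_assoc _ _ _).symm
    _ ≤ Nat.card ↥(D ⊔ B) * Nat.card Z *
        Nat.card ↥(centralizer ((D ⊔ B : Subgroup G) : Set G)) := Nat.mul_le_mul e6 e7
    _ = _ := by rw [mu]; ring

/-- The projection of an isotropic atom to a nondegenerate invariant member without invariant
members below it is trivial or everything. -/
theorem proj_eq (hG : IsPGroup p G) (hX : IsMuMax X)
    {M : Subgroup G} (hM : M ≤ normalizer (X : Set G))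
    (hgen : M ≤ closure {g : G | g ∈ M ∧ Shears X g})
    {U : Subgroup G} (hU : Mem X U) (hUM : M ≤ normalizer (U : Set G))
    (hU1 : U ⊓ centralizer (U : Set G) = centralizer (X : Set G))
    (hU2 : U ⊔ centralizer (U : Set G) = X)
    (hirr : ∀ T, Mem X T → T ≤ U → M ≤ normalizer (T : Set G) →
      T = centralizer (X : Set G) ∨ T = U)
    {a : Subgroup G} (ha : Atom X a) (hai : a ≤ centralizer (a : Set G)) :
    ((a ⊔ centralizer (U : Set G)) ⊓ U = centralizer (X : Set G) ∨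
      (a ⊔ centralizer (U : Set G)) ⊓ U = U) := by
  set C' := centralizer (U : Set G) with hC'
  have hCm : Mem X C' := hU.cent hX
  have hπ : ∀ T, Mem X T → Mem X ((T ⊔ C') ⊓ U) := fun T hT => (hT.sup hCm).inf hU
  refine hirr _ (hπ a ha.1) inf_le_right ?_
  refine hgen.trans ((closure_le _).2 ?_)
  rintro g ⟨hgM, hg⟩
  refine mem_normalizer_of_cnj (cnj_eq_of_le ?_)
  have hgU : cnj g U = U := cnj_eq_of_mem_normalizer (hUM hgM)
  have hgC : cnj g C' = C' := by rw [hC', ← centralizer_cnj, hgU]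
  have hgπ : cnj g ((a ⊔ C') ⊓ U) = (cnj g a ⊔ C') ⊓ U := by
    rw [cnj, Subgroup.map_inf _ _ _ (MulAut.conj g).injective, Subgroup.map_sup]
    exact congrArg₂ (· ⊓ ·) (congrArg (cnj g a ⊔ ·) hgC) hgU
  rw [hgπ]
  rcases hg a ha hai with e | ⟨w, hw, hwi, hwf, hle, -⟩
  · rw [e]
  -- images under the projection
  have hsat : ∀ T, Mem X T → T ⊔ C' = ((T ⊔ C') ⊓ U) ⊔ C' := by
    intro T hT
    have h := hCm.1.modular hU.1 (L := T ⊔ C') le_sup_right
    rw [sup_comm C' U, hU2, inf_eq_right.2 (sup_le hT.2.2 hCm.2.2)] at h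
    rw [inf_comm (T ⊔ C') U, sup_comm (U ⊓ (T ⊔ C')) C']
    exact h
  set A' := (a ⊔ C') ⊓ U with hA'
  set W' := (w ⊔ C') ⊓ U with hW'
  have hA'm : Mem X A' := hπ a ha.1
  have hW'm : Mem X W' := hπ w hw.1
  have hsum : (cnj g a ⊔ C') ⊓ U ≤ A' ⊔ W' := by
    have h1 : cnj g a ⊔ C' ≤ (A' ⊔ W') ⊔ C' :=
      sup_le (hle.trans (sup_le
        ((le_sup_left.trans (hsat a ha.1).le).trans (sup_le_sup_right le_sup_left _))
        ((le_sup_left.trans (hsat w hw.1).le).trans (sup_le_sup_right le_sup_right _))))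
        le_sup_right
    refine (inf_le_inf_right U h1).trans ?_
    rw [(hA'm.sup hW'm).1.modular hCm.1 (sup_le inf_le_right inf_le_right), inf_comm C' U, hU1]
    exact sup_le le_rfl (hA'm.2.1.trans le_sup_left)
  by_cases hWA : W' ≤ A'
  · exact hsum.trans (sup_le le_rfl hWA)
  have hWne : centralizer (X : Set G) ≠ W' := fun h => hWA (h.symm.trans_le hA'm.2.1)
  -- the projection of an atom is an atom
  have hWatom : Atom X W' := by
    refine ⟨hW'm, hWne, fun S hS hSW => ?_⟩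
    have hSwC : S ⊔ C' ≤ w ⊔ C' := sup_le (hSW.trans inf_le_left) le_sup_right
    have hm := hCm.1.modular hw.1.1 (L := S ⊔ C') le_sup_right
    rw [sup_comm C' w, inf_eq_right.2 hSwC] at hm
    by_cases h : w ≤ S ⊔ C'
    · right
      refine le_antisymm hSW ?_
      have h1 : (w ⊔ C') ⊓ U ≤ (S ⊔ C') ⊓ U := inf_le_inf_right U (sup_le h le_sup_right)
      rw [hS.1.modular hCm.1 (hSW.trans inf_le_right), inf_comm C' U, hU1,
        sup_eq_left.2 hS.2.1] at h1
      exact h1
    · left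
      rw [hw.inf_eq_bot (hS.sup hCm) h, sup_eq_left.2 hCm.2.1] at hm
      exact le_antisymm (hU1 ▸ le_inf (hSW.trans inf_le_right) (le_sup_left.trans hm.le)) hS.2.1
  have hWfix : Fix (centralizer (X : Set G)) g W' := by
    intro y hy
    obtain ⟨v, hv, c, hc, rfl⟩ := (Set.ext_iff.1 (hw.1.1.sup_inf hCm.1).2.2.1 y).1 hy.1
    refine hU1.le (Subgroup.mem_inf.2 ⟨mul_mem (inv_mem (Subgroup.mem_inf.1 hy).2) (cnj_le_iff.1 hgU.le _ (Subgroup.mem_inf.1 hy).2), ?_⟩)
    have h1 : c⁻¹ * (v⁻¹ * (g * v * g⁻¹)) * (g * c * g⁻¹) ∈ C' :=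
      mul_mem (mul_mem (inv_mem hc) (hCm.2.1 (hwf v hv))) (cnj_le_iff.1 hgC.le c hc)
    convert h1 using 1
    group
  -- a maximal complement above the projection of `a`
  have hAW : W' ⊓ A' = centralizer (X : Set G) := hWatom.inf_eq_bot hA'm hWA
  obtain ⟨C, hAC, ⟨hCmem, hACle, hCU, hCW⟩, hCmax⟩ := (Set.toFinite {S : Subgroup G |
    Mem X S ∧ A' ≤ S ∧ S ≤ U ∧ W' ⊓ S = centralizer (X : Set G)}).exists_le_maximal
      (show A' ∈ _ from ⟨hA'm, le_rfl, inf_le_right, hAW⟩)
  have hCtop : C ⊔ W' = U := by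
    by_contra hne
    obtain ⟨F, hFU, ⟨hF, hFa⟩, hFmin⟩ := (Set.toFinite {S : Subgroup G | Mem X S ∧
      ∀ b, Atom X b → b ≤ U → b ≤ S}).exists_le_minimal
        (show U ∈ _ from ⟨hU, fun _ _ h => h⟩)
    have hFleast : ∀ S, Mem X S → (∀ b, Atom X b → b ≤ U → b ≤ S) → F ≤ S := fun S hS hSa =>
      (hFmin ⟨hF.inf hS, fun b hb hbU => le_inf (hFa b hb hbU) (hSa b hb hbU)⟩
        inf_le_left).trans inf_le_right
    have hFM : M ≤ normalizer (F : Set G) := by
      intro m hm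
      refine mem_normalizer_of_cnj ?_
      have hle : F ≤ cnj m F := by
        refine hFleast _ (hF.cnj (hM hm)) fun b hb hbU => ?_
        have hb' : cnj m⁻¹ b ≤ F := hFa _ (hb.cnj (inv_mem (hM hm)))
          ((Subgroup.map_mono hbU).trans
            (cnj_eq_of_mem_normalizer (inv_mem (hUM hm))).le)
        intro x hx
        rw [mem_cnj]
        exact hb' (mem_cnj.2 (by simpa [mul_assoc] using hx))
      exact (eq_of_le_of_card_ge hle (card_cnj m F).le).symm
    have hFne : F ≠ centralizer (X : Set G) := fun h =>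
      hWatom.2.1 (le_antisymm hW'm.2.1 (h ▸ hFa W' hWatom inf_le_right))
    have hFeq := (hirr F hF hFU hFM).resolve_left hFne
    obtain ⟨b, hb, hbU, hbE⟩ : ∃ b, Atom X b ∧ b ≤ U ∧ ¬ b ≤ C ⊔ W' := by
      by_contra h
      simp only [not_exists, not_and, not_not] at h
      exact hne (le_antisymm (sup_le hCU inf_le_right)
        (hFeq ▸ hFleast _ (hCmem.sup hW'm) h))
    have hCb : ¬ C ⊔ b ≤ C := fun h => hbE ((le_sup_right.trans h).trans le_sup_left)
    have hWCb : W' ≤ C ⊔ b := by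
      by_contra h
      exact hCb (hCmax ⟨hCmem.sup hb.1, hACle.trans le_sup_left, sup_le hCU hbU,
        hWatom.inf_eq_bot (hCmem.sup hb.1) h⟩ le_sup_left)
    have hm := hCmem.1.modular hb.1.1 (L := C ⊔ W') le_sup_left
    rw [hb.inf_eq_bot (hCmem.sup hW'm) hbE, sup_eq_left.2 hCmem.2.1,
      inf_eq_right.2 (sup_le le_sup_left hWCb)] at hm
    exact hWatom.2.1 (hCW.symm.trans (inf_eq_left.2 (le_sup_right.trans hm.le)))
  -- `g` normalises it
  have hCg : cnj g C ≤ C := by
    have hXn : W' ≤ normalizer (X : Set G) := (inf_le_right.trans hU.2.2).trans le_normalizer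
    obtain ⟨x, hxU, hx, hxf⟩ := exists_fix hG hU
      (fun h => hWne (le_antisymm hW'm.2.1 (h ▸ inf_le_right))) hUM
    set C₁ := C ⊓ cnj g⁻¹ C with hC₁
    have hC₁m : Mem X C₁ := hCmem.inf (hCmem.cnj (inv_mem (hM hgM)))
    obtain ⟨k, hk, v, hv, hkv⟩ :=
      (Set.ext_iff.1 (hCmem.1.sup_inf hW'm.1).2.2.1 x).1 (hCtop.ge hxU)
    simp only at hkv
    subst hkv
    have hk1 : k ∈ C₁ := by
      refine ⟨hk, mem_cnj.2 ?_⟩
      rw [inv_inv]
      have h1 := conj_mem_centralizer (hXn hv)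
        (mul_mem (hxf g hgM) (inv_mem (hWfix v hv)))
      have h2 := mul_mem hk (hCmem.2.1 h1)
      convert h2 using 1
      group
    obtain ⟨F, hF, hxF, hFU, hFle⟩ := exists_closure hU hxU
    have hFM : M ≤ normalizer (F : Set G) := by
      intro m hm
      refine mem_normalizer_of_cnj ?_
      have hle : F ≤ cnj m F := by
        refine hFle _ (hF.cnj (hM hm)) (mem_cnj.2 ?_)
        have h1 := mul_mem hxF (hF.2.1 (hxf m⁻¹ (inv_mem hm)))
        simpa [mul_assoc] using h1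
      exact (eq_of_le_of_card_ge hle (card_cnj m F).le).symm
    have hFeq : F = U := (hirr F hF hFU hFM).resolve_left fun h => hx (h ▸ hxF)
    have hUT : U ≤ C₁ ⊔ W' := hFeq ▸ hFle _ (hC₁m.sup hW'm) (mul_mem_sup hk1 hv)
    have hm := hC₁m.1.modular hW'm.1 (L := C) inf_le_left
    rw [hCW, sup_eq_left.2 hC₁m.2.1, inf_eq_right.2 (hCU.trans hUT)] at hm
    rw [cnj_le_iff]
    intro v hv
    have := mem_cnj.1 ((hm.le hv).2)
    rwa [inv_inv] at this
  have hfin : (cnj g a ⊔ C') ⊓ U ≤ C := by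
    rw [← hgπ]
    exact (Subgroup.map_mono hAC).trans hCg
  refine (le_inf hsum hfin).trans ?_
  rw [hA'm.1.modular hW'm.1 hAC, hCW, sup_eq_left.2 hA'm.2.1]

/-- The theorem: a minimal centrally large subgroup normalised by `J` and `P_MCL`. -/
theorem exists_minimal_normalized (hG : IsPGroup p G) :
    ∃ Q : Subgroup G, Cfsg.IsMinimalCentrallyLarge Q ∧
      Cfsg.thompsonSubgroupA G ≤ normalizer (Q : Set G) ∧
      Cfsg.minimalCentrallyLargeJoin G ≤ normalizer (Q : Set G) := by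
  set M := Cfsg.minimalCentrallyLargeJoin G ⊔ Cfsg.thompsonSubgroupA G with hMdef
  have hMcl : Cfsg.IsCentrallyLarge M := sup_thompsonA isCentrallyLarge_minimalCentrallyLargeJoin
  obtain ⟨X, -, ⟨hXcl, hXM, hXn⟩, hXmin⟩ := (Set.toFinite {Y : Subgroup G |
    Cfsg.IsCentrallyLarge Y ∧ Y ≤ M ∧ M ≤ normalizer (Y : Set G)}).exists_le_minimal
      (show M ∈ _ from ⟨hMcl, le_rfl, le_normalizer⟩)
  refine ⟨X, ⟨hXcl, ?_⟩, le_sup_right.trans hXn, le_sup_left.trans hXn⟩
  obtain ⟨hX, hXc⟩ := (isCentrallyLarge_iff X).1 hXcl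
  -- generators
  have hgen : M ≤ closure {g : G | g ∈ M ∧ Shears X g} := by
    obtain ⟨Q₀, hQ₀X, hQ₀⟩ := exists_isMinimalCentrallyLarge_le hXcl
    refine sup_le (sSup_le fun R hR => ?_) (sSup_le fun A hA g hg => ?_)
    · have hRM : R ≤ M := le_trans (le_sSup hR) le_sup_left
      have hCR := ((isCentrallyLarge_iff R).1 hR.1).2
      refine (inf_sup_centralizer hR hQ₀).ge.trans (sup_le (fun g hg => subset_closure ?_)
        fun g hg => subset_closure ?_)
      · exact ⟨hXM (hQ₀X hg.2), shears_of_mem hG hX hXc (hQ₀X hg.2)⟩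
      · exact ⟨hRM (hCR hg), shears_of_centralizer hG hX hXc hR.1
          ((hCR.trans hRM).trans hXn) hg⟩
    · have hAM : A ≤ M := le_trans (le_sSup hA) le_sup_right
      exact subset_closure
        ⟨hAM hg, shears_of_maxAbelian hG hX hXc hA (hAM.trans hXn) hg⟩
  -- no isotropic invariant member
  have hnoiso : ∀ V, Mem X V → M ≤ normalizer (V : Set G) → V ≤ centralizer (V : Set G) →
      V = centralizer (X : Set G) := by
    intro V hV hVM hViso
    have hC := hV.cent hX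
    have hcl : Cfsg.IsCentrallyLarge (centralizer (V : Set G)) :=
      (isCentrallyLarge_iff _).2 ⟨hC.1, hV.1.centralizer_max.2 ▸ hViso⟩
    have hn : M ≤ normalizer (centralizer (V : Set G) : Set G) := fun m hm =>
      mem_normalizer_of_cnj (by rw [← centralizer_cnj, cnj_eq_of_mem_normalizer (hVM hm)])
    have h := le_antisymm hC.2.2 (hXmin ⟨hcl, hC.2.2.trans hXM, hn⟩ hC.2.2)
    rw [hV.1.centralizer_max.2, h]
  have hcentM : ∀ U : Subgroup G, M ≤ normalizer (U : Set G) →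
      ∀ m ∈ M, cnj m (centralizer (U : Set G)) = centralizer (U : Set G) := fun U hU m hm => by
    rw [← centralizer_cnj, cnj_eq_of_mem_normalizer (hU hm)]
  have hinfM : ∀ U V : Subgroup G, M ≤ normalizer (U : Set G) → M ≤ normalizer (V : Set G) →
      M ≤ normalizer ((U ⊓ centralizer (V : Set G) : Subgroup G) : Set G) := by
    intro U V hU hV m hm
    refine mem_normalizer_of_cnj ?_
    rw [cnj, Subgroup.map_inf _ _ _ (MulAut.conj m).injective]
    exact congrArg₂ (· ⊓ ·) (cnj_eq_of_mem_normalizer (hU hm)) (hcentM V hV m hm)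
  have hnd : ∀ U, Mem X U → M ≤ normalizer (U : Set G) →
      U ⊓ centralizer (U : Set G) = centralizer (X : Set G) ∧
      U ⊔ centralizer (U : Set G) = X := by
    intro U hU hUM
    have h1 : U ⊓ centralizer (U : Set G) = centralizer (X : Set G) :=
      hnoiso _ (hU.inf (hU.cent hX)) (hinfM U U hUM hUM)
        (inf_le_right.trans (centralizer_le (SetLike.coe_subset_coe.2 inf_le_left)))
    refine ⟨h1, ?_⟩
    rw [(hU.sup (hU.cent hX)).1.centralizer_max.2, centralizer_sup, ← hU.1.centralizer_max.2,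
      inf_comm, h1, ← hX.centralizer_max.2]
  intro Q hQX hQcl
  by_contra hne
  obtain ⟨hQ, hQc⟩ := (isCentrallyLarge_iff Q).1 hQcl
  have hQm : Mem X Q := ⟨hQ, (centralizer_le (SetLike.coe_subset_coe.2 hQX)).trans hQc, hQX⟩
  obtain ⟨a₀, ha₀Q, ha₀⟩ := exists_atom_le (hQm.cent hX) fun h => hne (by
    rw [hQ.centralizer_max.2, ← h, ← hX.centralizer_max.2])
  have ha₀i : a₀ ≤ centralizer (a₀ : Set G) := by
    refine (ha₀Q.trans hQc).trans ?_
    rw [le_centralizer_iff]
    exact ha₀Q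
  obtain ⟨Y, -, ⟨hY, hYM, a, haY, ha, hai⟩, hYmin⟩ := (Set.toFinite {U : Subgroup G |
    Mem X U ∧ M ≤ normalizer (U : Set G) ∧
      ∃ a ≤ U, Atom X a ∧ a ≤ centralizer (a : Set G)}).exists_le_minimal
      (show X ∈ _ from ⟨mem_self hX hXc, hXn, a₀, ha₀.1.2.2, ha₀, ha₀i⟩)
  refine ha.2.1 (hnoiso a ha.1 (hgen.trans ((closure_le _).2 ?_)) hai).symm
  rintro g ⟨hgM, hg⟩
  refine mem_normalizer_of_cnj ?_
  rcases hg a ha hai with e | ⟨w, hw, hwi, hwf, -, hwle⟩
  · exact e
  have hwY : w ≤ Y := hwle.trans (sup_le haY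
    ((Subgroup.map_mono haY).trans (cnj_eq_of_mem_normalizer (hYM hgM)).le))
  -- `g` is trivial on each invariant member of `Y`
  have htriv : ∀ U, Mem X U → M ≤ normalizer (U : Set G) → U ≤ Y →
      Fix (centralizer (X : Set G)) g U := by
    intro U
    induction U using WellFoundedLT.induction with
    | ind U ih =>
      intro hU hUM hUY
      by_cases hUZ : U = centralizer (X : Set G)
      · intro v hv
        rw [hUZ] at hv
        exact mul_mem (inv_mem hv) (conj_mem_centralizer (hXn hgM) hv)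
      by_cases hred : ∃ T, Mem X T ∧ T ≤ U ∧ M ≤ normalizer (T : Set G) ∧
          T ≠ centralizer (X : Set G) ∧ T ≠ U
      · obtain ⟨T, hT, hTU, hTM, hT0, hT1⟩ := hred
        obtain ⟨hTd, hTs⟩ := hnd T hT hTM
        have hT2m : Mem X (U ⊓ centralizer (T : Set G)) := hU.inf (hT.cent hX)
        have hT2 : U ⊓ centralizer (T : Set G) < U := inf_le_left.lt_of_ne fun h =>
          hT0 (le_antisymm (hTd ▸ le_inf le_rfl (hTU.trans (h.ge.trans inf_le_right))) hT.2.1)
        have hdec : U ≤ T ⊔ (U ⊓ centralizer (T : Set G)) := by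
          have h := hT.1.modular (hT.cent hX).1 hTU
          rw [hTs, inf_eq_right.2 hU.2.2, inf_comm (centralizer (T : Set G)) U] at h
          exact h.le
        have f1 := ih T (lt_of_le_of_ne hTU hT1) hT hTM (hTU.trans hUY)
        have f2 := ih _ hT2 hT2m (hinfM U T hUM hTM) (inf_le_left.trans hUY)
        intro y hy
        obtain ⟨t, ht, c, hc, rfl⟩ := (Set.ext_iff.1 (hT.1.sup_inf hT2m.1).2.2.1 y).1 (hdec hy)
        have h1 := conj_mem_centralizer
          (inv_mem (Subgroup.le_normalizer (hT2m.2.2 hc))) (f1 t ht)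
        convert mul_mem h1 (f2 c hc) using 1
        group
      · have hirr : ∀ T, Mem X T → T ≤ U → M ≤ normalizer (T : Set G) →
            T = centralizer (X : Set G) ∨ T = U := fun T hT hTU hTM =>
          or_iff_not_imp_left.2 fun h => by_contra fun h' => hred ⟨T, hT, hTU, hTM, h, h'⟩
        obtain ⟨hUd, hUs⟩ := hnd U hU hUM
        have hC := hU.cent hX
        rcases proj_eq hG hX hXn hgen hU hUM hUd hUs hirr hw hwi with e | e
        · exfalso
          have h := hC.1.modular hU.1 (L := w ⊔ centralizer (U : Set G)) le_sup_right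
          rw [sup_comm (centralizer (U : Set G)) U, hUs, inf_eq_right.2 (sup_le hw.1.2.2 hC.2.2),
            inf_comm U, e, sup_eq_left.2 hC.2.1] at h
          have hwC : w ≤ centralizer (U : Set G) := le_sup_left.trans h.le
          have hle := hYmin ⟨hY.inf hC, hinfM Y U hYM hUM, w, le_inf hwY hwC, hw, hwi⟩
            inf_le_left
          exact hUZ (le_antisymm (hUd ▸ le_inf le_rfl (hUY.trans (hle.trans inf_le_right))) hU.2.1)
        · intro y hy
          have hy' : y ∈ w ⊔ centralizer (U : Set G) := (e.ge hy).1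
          obtain ⟨v, hv, c, hc, rfl⟩ := (Set.ext_iff.1 (hw.1.1.sup_inf hC.1).2.2.1 y).1 hy'
          refine hUd.le (Subgroup.mem_inf.2 ⟨mul_mem (inv_mem hy) ((mem_normalizer_iff.1 (hUM hgM) _).1 hy), ?_⟩)
          have h1 : c⁻¹ * (v⁻¹ * (g * v * g⁻¹)) * (g * c * g⁻¹) ∈ centralizer (U : Set G) :=
            mul_mem (mul_mem (inv_mem hc) (hC.2.1 (hwf v hv)))
              (cnj_le_iff.1 (hcentM U hUM g hgM).le c hc)
          convert h1 using 1
          group
  exact cnj_eq_of_le (cnj_le_iff.2 fun x hx =>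
    (htriv Y hY hYM le_rfl).conj_mem (haY hx) ha.1.2.1 hx)

end Cfsg.Agent.CentLarge
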